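import Cfsg.Agent.Lib.Comp.Intrinsic.Main
import Cfsg.Agent.Lib.Classical.SLOrder
import Cfsg.Agent.Lib.Solvable.PCore
import Cfsg.Prelude.Def_SporadicB

/-!
Intrinsic 2-components of types `SL₂(q)` and `2A₇`: assembly.
-/

set_option autoImplicit false
set_option linter.unusedSectionVars false

open Subgroup

namespace CfsgLib.Comp.Intrinsic

universe u

variable {G : Type u} [Group G] [Finite G]

/-- The two types: the centre modulo the core has order two and the orders agree. -/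
theorem type_data {J K : Subgroup G}
    (htype : (∃ (F : Type) (_ : Field F) (_ : Fintype F), Odd (Fintype.card F) ∧
        Nonempty (↥J ⧸ Cfsg.oddCore ↥J ≃* Matrix.SpecialLinearGroup (Fin 2) F) ∧
        Nonempty (↥K ⧸ Cfsg.oddCore ↥K ≃* Matrix.SpecialLinearGroup (Fin 2) F)) ∨
      (Cfsg.IsNonsplitDoubleCover (↥J ⧸ Cfsg.oddCore ↥J) ↥(alternatingGroup (Fin 7)) ∧
        Cfsg.IsNonsplitDoubleCover (↥K ⧸ Cfsg.oddCore ↥K) ↥(alternatingGroup (Fin 7)))) :
    Nat.card (center (↥J ⧸ Cfsg.oddCore ↥J)) = 2 ∧ Nat.card (center (↥K ⧸ Cfsg.oddCore ↥K)) = 2 ∧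
      Nat.card (↥J ⧸ Cfsg.oddCore ↥J) = Nat.card (↥K ⧸ Cfsg.oddCore ↥K) := by
  rcases htype with ⟨F, _, _, hF, ⟨e₁⟩, ⟨e₂⟩⟩ | ⟨⟨hj, ⟨e₁⟩, -⟩, ⟨hk, ⟨e₂⟩, -⟩⟩
  · have hc : Nat.card (center (Matrix.SpecialLinearGroup (Fin 2) F)) = 2 := by
      rw [CfsgLib.Classical.card_center_sl, Fintype.card_fin]
      obtain ⟨m, hm⟩ := hF
      rw [hm, Nat.add_sub_cancel, Nat.gcd_mul_right_right]
    exact ⟨(Nat.card_congr (Subgroup.centerCongr e₁).toEquiv).trans hc,
      (Nat.card_congr (Subgroup.centerCongr e₂).toEquiv).trans hc,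
      (Nat.card_congr e₁.toEquiv).trans (Nat.card_congr e₂.toEquiv).symm⟩
  · refine ⟨hj, hk, ?_⟩
    rw [card_eq_card_quotient_mul_card_subgroup (center (↥J ⧸ Cfsg.oddCore ↥J)),
      card_eq_card_quotient_mul_card_subgroup (center (↥K ⧸ Cfsg.oddCore ↥K)), hj, hk,
      Nat.card_congr e₁.toEquiv, Nat.card_congr e₂.toEquiv]

/-- The image of a 2-component of `C(z)` modulo the core of `C(z)`. -/
theorem image_equiv {z : G} {J : Subgroup G} (hJ : J ≤ CI z)
    (hcomp : Cfsg.IsPComponent 2 (J.subgroupOf (CI z))) :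
    Nonempty (↥((J.subgroupOf (CI z)).map (toModCore 2 ↥(CI z))) ≃* ↥J ⧸ Cfsg.oddCore ↥J) := by
  set J' := J.subgroupOf (CI z)
  have := Cfsg.pPrimeCore_normal 2 ↥J'
  refine ⟨MulEquiv.trans ?_ (QuotientGroup.congr (Cfsg.pPrimeCore 2 ↥J') (Cfsg.oddCore ↥J)
    (subgroupOfEquivOfLe hJ) (CfsgLib.Solvable.map_pPrimeCore_equiv _ 2))⟩
  refine ((QuotientGroup.quotientMulEquivOfEq (?_ : Cfsg.pPrimeCore 2 ↥J' =
      ((toModCore 2 ↥(CI z)).comp J'.subtype).ker)).trans
    ((QuotientGroup.quotientKerEquivRange ((toModCore 2 ↥(CI z)).comp J'.subtype)).trans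
      (MulEquiv.subgroupCongr ?_))).symm
  · apply map_injective J'.subtype_injective
    rw [pPrimeCore_map_subtype hcomp.1, ← MonoidHom.comap_ker, ker_toModCore, map_comap_eq,
      range_subtype, inf_comm]
  · rw [MonoidHom.range_comp, range_subtype]

theorem twoComp_of {z : G} {J : Subgroup G} (hz : z ∈ J ∧ orderOf z = 2 ∧ ∀ t ∈ J, orderOf t = 2 → t = z)
    (hJ : J ≤ CI z ∧ Cfsg.IsPComponent 2 (J.subgroupOf (CI z)))
    (hc : Nat.card (center (↥J ⧸ Cfsg.oddCore ↥J)) = 2) :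
    TwoComp (J.subgroupOf (CI z)) (toCI (rfl : z * z = z * z)) := by
  refine ⟨hJ.2, hz.1, ?_, fun s hs h2 => Subtype.ext (hz.2.2 _ hs (by rw [Subgroup.orderOf_coe, h2])),
    mem_center_iff.2 fun c => Subtype.ext (comm_of_mem c.2), ?_⟩
  · rw [← Subgroup.orderOf_coe]; exact hz.2.1
  · obtain ⟨e⟩ := image_equiv hJ.1 hJ.2
    exact (Nat.card_congr (Subgroup.centerCongr e).toEquiv).trans hc

theorem mem_normalizer_of_subgroupOf {C J : Subgroup G} (hJ : J ≤ C) {c : ↥C}
    (h : c ∈ normalizer ((J.subgroupOf C : Subgroup ↥C) : Set ↥C)) :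
    (c : G) ∈ normalizer (J : Set G) := by
  refine mem_normalizer_fintype fun a ha => ?_
  exact (mem_normalizer_iff.1 h ⟨a, hJ ha⟩).1 ha

theorem subgroupOf_mem_normalizer {C J : Subgroup G} {c : ↥C}
    (h : (c : G) ∈ normalizer (J : Set G)) :
    c ∈ normalizer ((J.subgroupOf C : Subgroup ↥C) : Set ↥C) :=
  mem_normalizer_iff.2 fun a => (mem_normalizer_iff.1 h (a : G))

/-- The statement on intrinsic components. -/
theorem intrinsic (J K : Subgroup G) (hJK : J ≠ K) (x z : G)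
    (hxJ : x ∈ J ∧ orderOf x = 2 ∧ ∀ t ∈ J, orderOf t = 2 → t = x)
    (hzK : z ∈ K ∧ orderOf z = 2 ∧ ∀ t ∈ K, orderOf t = 2 → t = z)
    (hJ : J ≤ CI x ∧ Cfsg.IsPComponent 2 (J.subgroupOf (CI x)))
    (hK : K ≤ CI z ∧ Cfsg.IsPComponent 2 (K.subgroupOf (CI z)))
    (hcJ : Nat.card (center (↥J ⧸ Cfsg.oddCore ↥J)) = 2)
    (hcK : Nat.card (center (↥K ⧸ Cfsg.oddCore ↥K)) = 2)
    (hcard : Nat.card (↥J ⧸ Cfsg.oddCore ↥J) = Nat.card (↥K ⧸ Cfsg.oddCore ↥K)) :
    (∀ y ∈ K, IsPGroup 2 ↥(zpowers y) → 4 ≤ orderOf y → y * x = x * y →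
      y ∈ normalizer (J : Set G)) ∧
    (x ∈ normalizer (K : Set G) → z ∈ normalizer (J : Set G)) := by
  by_cases hxz : x = z
  · subst hxz
    refine ⟨fun y hy _ _ _ => ?_, fun _ => le_normalizer hxJ.1⟩
    have hyC : y ∈ CI x := hK.1 hy
    exact mem_normalizer_of_subgroupOf hJ.1 (c := ⟨y, hyC⟩)
      (pLayer_le_normalizer hJ.2 ((le_sSup hK.2 : K.subgroupOf (CI x) ≤ Cfsg.pLayer 2 _) hy))
  have tJ := twoComp_of hxJ hJ hcJ
  have tK := twoComp_of hzK hK hcK
  have hidx : (center ↥((J.subgroupOf (CI x)).map (toModCore 2 ↥(CI x)))).index =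
      (center ↥((K.subgroupOf (CI z)).map (toModCore 2 ↥(CI z)))).index := by
    obtain ⟨e₁⟩ := image_equiv hJ.1 hJ.2
    obtain ⟨e₂⟩ := image_equiv hK.1 hK.2
    refine Nat.eq_of_mul_eq_mul_left (two_pos) ?_
    have h1 := card_mul_index (center ↥((J.subgroupOf (CI x)).map (toModCore 2 ↥(CI x))))
    have h2 := card_mul_index (center ↥((K.subgroupOf (CI z)).map (toModCore 2 ↥(CI z))))
    rw [tJ.card_center, Nat.card_congr e₁.toEquiv] at h1
    rw [tK.card_center, Nat.card_congr e₂.toEquiv, ← hcard] at h2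
    exact h1.trans h2.symm
  -- the involution of `K` commutes with an involution normalising `K`
  have hcomm_of : x ∈ normalizer (K : Set G) → z * x = x * z := fun hn => by
    have h1 : x * z * x⁻¹ ∈ K := (mem_normalizer_iff.1 hn z).1 hzK.1
    have h2 := hzK.2.2 _ h1 ((orderOf_injective (MulAut.conj x).toMonoidHom
      (MulAut.conj x).injective z).trans hzK.2.1)
    rw [mul_inv_eq_iff_eq_mul] at h2
    exact h2.symm
  have hii : x ∈ normalizer (K : Set G) → z ∈ normalizer (J : Set G) := fun hn => by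
    have hzx := hcomm_of hn
    exact mem_normalizer_of_subgroupOf hJ.1
      (normalizes hzx tJ tK hidx (subgroupOf_mem_normalizer (c := toCI hzx.symm) hn))
  refine ⟨fun y hy hyp hy4 hyx => ?_, hii⟩
  -- the order of `y`
  obtain ⟨k, hk⟩ := hyp.exists_card_eq
  rw [Nat.card_zpowers] at hk
  obtain ⟨n, rfl⟩ : ∃ n, k = n + 2 := ⟨k - 2, by
    rcases k with _ | _ | k
    · rw [pow_zero] at hk; omega
    · rw [pow_one] at hk; omega
    · omega⟩
  have hyz : y * z = z * y := comm_of_mem (hK.1 hy)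
  have hzy : z = y ^ 2 ^ (n + 1) := by
    refine (hzK.2.2 _ (pow_mem hy _) ?_).symm
    rw [orderOf_pow, hk, Nat.gcd_eq_right (pow_dvd_pow 2 (by omega)),
      Nat.pow_div (by omega) two_pos]
    simp
  have hzx : z * x = x * z := by
    rw [hzy]; exact (Commute.pow_left hyx _).eq
  -- `x` normalises `K`
  have hxK : x ∈ normalizer (K : Set G) := by
    by_contra hn
    set s := toCI hzx.symm
    have hK' := hK.2
    have hKs := isPComponent_map_conj hK' s
    have hne : K.subgroupOf (CI z) ≠ (K.subgroupOf (CI z)).map (MulAut.conj s).toMonoidHom :=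
      fun h => hn (mem_normalizer_of_subgroupOf hK.1 (c := s) (map_conj_eq_iff.1 h.symm))
    have hyK : toCI hyz ∈ K.subgroupOf (CI z) := hy
    have hyKs : toCI hyz ∈ (K.subgroupOf (CI z)).map (MulAut.conj s).toMonoidHom :=
      ⟨toCI hyz, hyK, Subtype.ext (by
        show x * y * x⁻¹ = y
        rw [← hyx, mul_inv_cancel_right])⟩
    have h4 : (toCI hyz) * toCI hyz = 1 := by
      refine eq_one_of_map_eq_one ⟨n + 1, Subtype.ext ?_⟩ ?_
      · show (y * y) ^ 2 ^ (n + 1) = 1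
        rw [← pow_two, ← pow_mul, ← pow_succ', ← hk, pow_orderOf_eq_one]
      · rw [map_mul]
        rcases tK.mem_two hKs hne hyK (mem_map_of_mem _ hyKs) with e | e <;> rw [e]
        · exact one_mul _
        · exact tK.q_x_sq
    have h5 : orderOf y ∣ 2 := orderOf_dvd_of_pow_eq_one (by
      rw [pow_two]; exact congrArg Subtype.val h4)
    have := Nat.le_of_dvd two_pos h5
    omega
  have hzJ := hii hxK
  -- descend to the last power moving `J`
  by_contra hmove
  have hex : ∃ i, y ^ 2 ^ i ∈ normalizer (J : Set G) := ⟨n + 1, by rwa [← hzy]⟩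
  classical
  set i := Nat.find hex with hi
  have hi0 : i ≠ 0 := fun h0 => hmove (by
    have := Nat.find_spec hex
    rw [← hi, h0, pow_zero, pow_one] at this
    exact this)
  have hile : i ≤ n + 1 := Nat.find_le (by rwa [← hzy])
  set y1 := y ^ 2 ^ (i - 1) with hy1
  have hy1x : y1 * x = x * y1 := (Commute.pow_left hyx _).eq
  have hy1z : y1 * z = z * y1 := (Commute.pow_left hyz _).eq
  refine Nat.find_min hex (m := i - 1) (by omega) ?_
  refine mem_normalizer_of_subgroupOf hJ.1 (c := toCI hy1x) ?_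
  refine normalizes_elt hzx tJ tK hxz hidx (subgroupOf_mem_normalizer (c := toCI hzx) hzJ) hy1z
    (pow_mem hy _ : y1 ∈ K) hy1x (n := n + 1 - i) ?_ (subgroupOf_mem_normalizer ?_)
  · rw [hy1, orderOf_pow, hk, Nat.gcd_eq_right (pow_dvd_pow 2 (by omega)),
      Nat.pow_div (by omega) two_pos]
    congr 1; omega
  · show y1 * y1 ∈ _
    rw [hy1, ← pow_add, ← two_mul, ← pow_succ', Nat.sub_add_cancel (by omega), hi]
    exact Nat.find_spec hex

end CfsgLib.Comp.Intrinsic
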