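import Cfsg.Agent.Lib.Comp.PComponent
import Cfsg.Agent.Lib.Comp.LBalance
import Cfsg.Agent.Lib.Amalgam.SubnormalSylow
import Cfsg.Agent.Lib.Invol.Basic
import Cfsg.Agent.S0205

/-!
2-components with a single involution `x` which is central in the ambient group, and centre of
order two modulo the core.
-/

set_option autoImplicit false
set_option linter.unusedSectionVars false

open Subgroup
open scoped commutatorElement

namespace CfsgLib.Comp.Intrinsic

universe u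

variable {C : Type u} [Group C] [Finite C]

/-- A 2-component `J` whose only involution `x` is central and generates the centre of `J` modulo
the core. -/
structure TwoComp (J : Subgroup C) (x : C) : Prop where
  comp : Cfsg.IsPComponent 2 J
  mem : x ∈ J
  invol : orderOf x = 2
  uniq : ∀ s ∈ J, orderOf s = 2 → s = x
  cent : x ∈ center C
  card_center : Nat.card (center ↥(J.map (toModCore 2 C))) = 2

local notation "𝔮" => toModCore 2 C

/-- In a 2-group, equality modulo the core is equality. -/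
theorem eq_of_map_eq {R : Subgroup C} (hR : IsPGroup 2 ↥R) {a b : C} (ha : a ∈ R) (hb : b ∈ R)
    (h : 𝔮 a = 𝔮 b) : a = b := by
  have h1 : a⁻¹ * b ∈ Cfsg.pPrimeCore 2 C := QuotientGroup.eq.1 h
  obtain ⟨k, hk⟩ := hR ⟨a⁻¹ * b, mul_mem (inv_mem ha) hb⟩
  have hk' : (a⁻¹ * b) ^ 2 ^ k = 1 := by simpa using congrArg Subtype.val hk
  have h2 : orderOf (a⁻¹ * b) = 1 := Nat.eq_one_of_dvd_coprimes
    ((Nat.coprime_comm.1 (coprime_card_pPrimeCore 2 C)).pow_left k)
    (orderOf_dvd_of_pow_eq_one hk') (Subgroup.orderOf_dvd_natCard _ h1)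
  exact inv_mul_eq_one.1 (orderOf_eq_one_iff.1 h2)

theorem eq_one_of_map_eq_one {a : C} (ha : ∃ k : ℕ, a ^ 2 ^ k = 1) (h : 𝔮 a = 1) : a = 1 := by
  obtain ⟨k, hk⟩ := ha
  have h1 : a ∈ Cfsg.pPrimeCore 2 C := (QuotientGroup.eq_one_iff a).1 h
  exact orderOf_eq_one_iff.1 (Nat.eq_one_of_dvd_coprimes
    ((Nat.coprime_comm.1 (coprime_card_pPrimeCore 2 C)).pow_left k)
    (orderOf_dvd_of_pow_eq_one hk) (Subgroup.orderOf_dvd_natCard _ h1))

theorem exists_two_pow {R : Subgroup C} (hR : IsPGroup 2 ↥R) {a : C} (ha : a ∈ R) :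
    ∃ k : ℕ, a ^ 2 ^ k = 1 := by
  obtain ⟨k, hk⟩ := hR ⟨a, ha⟩
  exact ⟨k, by simpa using congrArg Subtype.val hk⟩

variable {J : Subgroup C} {x : C}

namespace TwoComp

variable (h : TwoComp J x)
include h

theorem x_sq : x * x = 1 := by rw [← pow_two, ← h.invol]; exact pow_orderOf_eq_one x

theorem x_ne_one : x ≠ 1 := fun e => by
  have := h.invol
  rw [e, orderOf_one] at this
  exact absurd this (by decide)

theorem x_inv : x⁻¹ = x := inv_eq_of_mul_eq_one_right h.x_sq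

theorem q_x_ne_one : 𝔮 x ≠ 1 := fun e =>
  h.x_ne_one (eq_one_of_map_eq_one ⟨1, by rw [pow_one, pow_two, h.x_sq]⟩ e)

theorem q_x_sq : 𝔮 x * 𝔮 x = 1 := by rw [← map_mul, h.x_sq, map_one]

theorem q_x_mem : 𝔮 x ∈ J.map 𝔮 := mem_map_of_mem _ h.mem

theorem q_x_central (w : C ⧸ Cfsg.pPrimeCore 2 C) : w * 𝔮 x = 𝔮 x * w := by
  obtain ⟨c, rfl⟩ := toModCore_surjective w
  rw [← map_mul, ← map_mul, mem_center_iff.1 h.cent c]

theorem quasi : Cfsg.IsQuasisimple ↥(J.map 𝔮) := h.comp.2.1.2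

/-- The centre of the image of `J` is `⟨x⟩`. -/
theorem eq_of_mem_center {a : ↥(J.map 𝔮)} (ha : a ∈ center ↥(J.map 𝔮)) :
    (a : C ⧸ Cfsg.pPrimeCore 2 C) = 1 ∨ (a : C ⧸ Cfsg.pPrimeCore 2 C) = 𝔮 x := by
  let xb : ↥(center ↥(J.map 𝔮)) :=
    ⟨⟨𝔮 x, h.q_x_mem⟩, mem_center_iff.2 fun w => Subtype.ext (h.q_x_central (w : C ⧸ _))⟩
  have hne : xb ≠ 1 := fun e => h.q_x_ne_one (congrArg
    (fun s : ↥(center ↥(J.map 𝔮)) => ((s : ↥(J.map 𝔮)) : C ⧸ Cfsg.pPrimeCore 2 C)) e)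
  by_cases h1 : (⟨a, ha⟩ : ↥(center ↥(J.map 𝔮))) = 1
  · left
    exact congrArg (fun s : ↥(center ↥(J.map 𝔮)) => ((s : ↥(J.map 𝔮)) : C ⧸ Cfsg.pPrimeCore 2 C)) h1
  by_cases h2 : (⟨a, ha⟩ : ↥(center ↥(J.map 𝔮))) = xb
  · right
    exact congrArg (fun s : ↥(center ↥(J.map 𝔮)) => ((s : ↥(J.map 𝔮)) : C ⧸ Cfsg.pPrimeCore 2 C)) h2
  exfalso
  classical
  have : Fintype ↥(center ↥(J.map 𝔮)) := Fintype.ofFinite _
  have hle := Finset.card_le_univ ({1, xb, ⟨a, ha⟩} : Finset ↥(center ↥(J.map 𝔮)))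
  have h3 : ({1, xb, ⟨a, ha⟩} : Finset ↥(center ↥(J.map 𝔮))).card = 3 := by
    rw [Finset.card_insert_of_notMem, Finset.card_insert_of_notMem, Finset.card_singleton]
    · simpa using fun e => h2 e.symm
    · simp only [Finset.mem_insert, Finset.mem_singleton, not_or]
      exact ⟨fun e => hne e.symm, fun e => h1 e.symm⟩
  rw [h3, ← Nat.card_eq_fintype_card, h.card_center] at hle
  omega

/-- An element of the image of `J` with square one is central there. -/
theorem sq_eq_one {a : C} (ha : a ∈ J) (h2 : 𝔮 a * 𝔮 a = 1) : 𝔮 a = 1 ∨ 𝔮 a = 𝔮 x := by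
  set m := orderOf a / 2 ^ (orderOf a).factorization 2
  have hm : Odd m := Nat.odd_iff.2 (Nat.two_dvd_ne_zero.1
    (Nat.not_dvd_ordCompl Nat.prime_two (orderOf_pos a).ne'))
  have hq : 𝔮 (a ^ m) = 𝔮 a := by
    obtain ⟨i, hi⟩ := hm
    rw [map_pow, hi, pow_succ, pow_mul, pow_two, h2, one_pow, one_mul]
  have hsq : a ^ m * a ^ m = 1 := by
    refine eq_one_of_map_eq_one ⟨(orderOf a).factorization 2, ?_⟩ (by rw [map_mul, hq, h2])
    rw [← pow_add, ← pow_mul, show (m + m) * 2 ^ (orderOf a).factorization 2 = 2 * orderOf a by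
      rw [← two_mul, mul_assoc, Nat.div_mul_cancel (Nat.ordProj_dvd _ _)],
      mul_comm, pow_mul, pow_orderOf_eq_one, one_pow]
  by_cases h1 : a ^ m = 1
  · left; rw [← hq, h1, map_one]
  · right
    rw [← hq, h.uniq _ (pow_mem ha m) (orderOf_eq_prime (by rwa [pow_two]) h1)]

/-- A 2-element of `J` with square one is `1` or `x`. -/
theorem invol_eq {a : C} (ha : a ∈ J) (h2 : a * a = 1) : a = 1 ∨ a = x := by
  by_cases h1 : a = 1
  · exact Or.inl h1
  · exact Or.inr (h.uniq a ha (orderOf_eq_prime (by rwa [pow_two]) h1))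

theorem four_dvd : 4 ∣ Nat.card ↥(J.map 𝔮) := by
  rw [card_eq_card_quotient_mul_card_subgroup (center ↥(J.map 𝔮)), h.card_center]
  refine Nat.mul_dvd_mul_right (a := 2) ?_ 2
  by_contra hodd
  have hs := Cfsg.Agent.S0205.result (G := ↥(J.map 𝔮) ⧸ center ↥(J.map 𝔮))
    (Nat.odd_iff.2 (Nat.two_dvd_ne_zero.1 hodd))
  refine not_isSolvable_of_isQuasisimple h.quasi ?_
  have : Group.IsSolvable ↥(center ↥(J.map 𝔮)) :=
    Group.isSolvable_of_comm fun a b => Subtype.ext (mem_center_iff.1 b.2 a)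
  exact Group.isSolvable_of_ker_le_range (center ↥(J.map 𝔮)).subtype
    (QuotientGroup.mk' (center ↥(J.map 𝔮))) (by rw [QuotientGroup.ker_mk', range_subtype])

/-- The intersection of a Sylow 2-subgroup of `C` with `J` is a Sylow 2-subgroup of `J`. -/
theorem sylow_inf (T : Sylow 2 C) : CfsgLib.Amalgam.IsSylIn 2 J (J ⊓ (T : Subgroup C)) :=
  CfsgLib.Amalgam.isSylIn_inf_sylow T h.comp.1

theorem exists_order_four (T : Sylow 2 C) : ∃ u ∈ J, u ∈ (T : Subgroup C) ∧ u * u = x := by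
  have h4 : 4 ∣ Nat.card ↥(J ⊓ (T : Subgroup C)) := by
    rw [(h.sylow_inf T).2.2]
    have hd : 2 ^ 2 ∣ Nat.card J := h.four_dvd.trans (card_map_dvd J 𝔮)
    exact pow_dvd_pow 2 ((Nat.prime_two.pow_dvd_iff_le_factorization Nat.card_pos.ne').1 hd)
  have hP : IsPGroup 2 ↥(T : Subgroup C) := T.isPGroup'
  have hex : ∃ u ∈ J ⊓ (T : Subgroup C), u * u ≠ 1 := by
    by_contra hcon
    push Not at hcon
    have hsub : ((J ⊓ (T : Subgroup C) : Subgroup C) : Set C) ⊆ {1, x} := fun u hu =>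
      h.invol_eq hu.1 (hcon u hu)
    have hle : Nat.card ↥(J ⊓ (T : Subgroup C)) ≤ Nat.card ({1, x} : Set C) :=
      Nat.card_mono (Set.toFinite _) hsub
    rw [Nat.card_coe_set_eq, Set.ncard_pair (Ne.symm h.x_ne_one)] at hle
    have := Nat.le_of_dvd Nat.card_pos h4
    omega
  obtain ⟨u, hu, hne⟩ := hex
  -- an element of order four is a power of `u`
  obtain ⟨k, hk⟩ := hP ⟨u, hu.2⟩
  replace hk : u ^ 2 ^ k = 1 := by simpa using congrArg Subtype.val hk
  induction k generalizing u with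
  | zero => exact absurd (by rw [pow_zero, pow_one] at hk; rw [hk, one_mul]) hne
  | succ n ih =>
    by_cases h4' : u * u * (u * u) = 1
    · exact ⟨u, hu.1, hu.2, (h.invol_eq (mul_mem hu.1 hu.1) h4').resolve_left hne⟩
    · refine ih (u * u) (mul_mem hu hu) h4' ?_
      rw [← pow_two, ← pow_mul, ← pow_succ']
      exact hk

omit h in
/-- Distinct 2-components commute modulo the core. -/
theorem commute_of_ne {K : Subgroup C} (hJ : Cfsg.IsPComponent 2 J) (hK : Cfsg.IsPComponent 2 K)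
    (hne : J ≠ K) {a b : C} (ha : a ∈ J) (hb : b ∈ K) : 𝔮 a * 𝔮 b = 𝔮 b * 𝔮 a := by
  rcases component_eq_or_le_centralizer hJ.2.1 hK.2.1 with e | e
  · exact absurd (isPComponent_ext hJ hK e) hne
  · exact (mem_centralizer_iff.1 (e (mem_map_of_mem _ ha)) _ (mem_map_of_mem _ hb)).symm

/-- An element in two distinct 2-components maps into `⟨x⟩`. -/
theorem mem_two {K : Subgroup C} (hK : Cfsg.IsPComponent 2 K) (hne : J ≠ K) {a : C}
    (ha : a ∈ J) (hb : 𝔮 a ∈ K.map 𝔮) : 𝔮 a = 1 ∨ 𝔮 a = 𝔮 x := by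
  obtain ⟨b, hb, e⟩ := hb
  refine h.eq_of_mem_center (a := ⟨𝔮 a, mem_map_of_mem _ ha⟩) (mem_center_iff.2 ?_)
  rintro ⟨_, c, hc, rfl⟩
  refine Subtype.ext ?_
  show 𝔮 c * 𝔮 a = 𝔮 a * 𝔮 c
  rw [← e]
  exact commute_of_ne h.comp hK hne hc hb

/-- The conjugate component has the same involution. -/
theorem conj (g : C) : TwoComp (J.map (MulAut.conj g).toMonoidHom) x := by
  have hx : (MulAut.conj g) x = x := by
    rw [MulAut.conj_apply, mem_center_iff.1 h.cent g, mul_inv_cancel_right]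
  refine ⟨isPComponent_map_conj h.comp g, ⟨x, h.mem, hx⟩, h.invol, ?_, h.cent, ?_⟩
  · rintro _ ⟨s, hs, rfl⟩ h2
    have h2' : orderOf s = 2 := by
      rw [← h2]
      exact (orderOf_injective (MulAut.conj g).toMonoidHom (MulAut.conj g).injective s).symm
    rw [h.uniq s hs h2']
    exact hx
  · have e : (J.map (MulAut.conj g).toMonoidHom).map 𝔮 =
        (J.map 𝔮).map (MulAut.conj (𝔮 g)).toMonoidHom := by
      rw [Subgroup.map_map, Subgroup.map_map]; congr 1
    rw [e]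
    let φ := (MulAut.conj (𝔮 g)).subgroupMap (J.map 𝔮)
    exact (Nat.card_congr (Subgroup.centerCongr φ).symm.toEquiv).trans h.card_center

end TwoComp

end CfsgLib.Comp.Intrinsic
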