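import Cfsg.Agent.Lib.Comp.Intrinsic.Lift
import Cfsg.Agent.Lib.Comp.PComponentEquiv

/-!
The 2-layers of the centralisers of elements, as subgroups of the ambient group.
-/

set_option autoImplicit false
set_option linter.unusedSectionVars false

open Subgroup

namespace CfsgLib.Comp.Intrinsic

universe u

variable {G : Type u} [Group G] [Finite G]

/-- The centraliser of an element. -/
abbrev CI (a : G) : Subgroup G := centralizer ({a} : Set G)

/-- An element commuting with `a`, as an element of its centraliser. -/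
abbrev toCI {a b : G} (h : b * a = a * b) : ↥(CI a) := ⟨b, mem_centralizer_singleton_iff.2 h⟩

/-- The 2-layer of the centraliser of `a`. -/
def lay (a : G) : Subgroup G := (Cfsg.pLayer 2 ↥(CI a)).map (CI a).subtype

theorem comm_of_mem {a b : G} (h : b ∈ CI a) : b * a = a * b := mem_centralizer_singleton_iff.1 h

theorem lay_le (a : G) : lay a ≤ CI a := map_subtype_le _

theorem mem_lay {a b : G} {h : b ∈ CI a} :
    b ∈ lay a ↔ (⟨b, h⟩ : ↥(CI a)) ∈ Cfsg.pLayer 2 ↥(CI a) := by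
  constructor
  · rintro ⟨c, hc, e⟩
    rwa [show (⟨b, h⟩ : ↥(CI a)) = c from Subtype.ext e.symm]
  · exact fun hc => ⟨_, hc, rfl⟩

theorem pLayer_map_le {X Y : Type*} [Group X] [Finite X] [Group Y] [Finite Y] (e : X ≃* Y) {v : X}
    (hv : v ∈ Cfsg.pLayer 2 X) : e v ∈ Cfsg.pLayer 2 Y := by
  have h : Cfsg.pLayer 2 X ≤ (Cfsg.pLayer 2 Y).comap e.toMonoidHom :=
    sSup_le fun K hK => map_le_iff_le_comap.1
      (le_sSup (isPComponent_map_mulEquiv e hK) : K.map e.toMonoidHom ≤ Cfsg.pLayer 2 Y)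
  exact h hv

/-- L-balance between the centralisers of two commuting elements. -/
theorem cross {a b : G} (ha : ∃ k : ℕ, a ^ 2 ^ k = 1) (hab : b * a = a * b) {v : ↥(CI a)}
    {hv : v ∈ centralizer ({toCI hab} : Set ↥(CI a))}
    (h : (⟨v, hv⟩ : ↥(centralizer ({toCI hab} : Set ↥(CI a)))) ∈
      Cfsg.pLayer 2 ↥(centralizer ({toCI hab} : Set ↥(CI a)))) :
    (v : G) ∈ lay b := by
  have hmem : ∀ w : ↥(centralizer ({toCI hab} : Set ↥(CI a))), ((w : ↥(CI a)) : G) ∈ CI b := fun w =>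
    mem_centralizer_singleton_iff.2 (congrArg Subtype.val (mem_centralizer_singleton_iff.1 w.2))
  let T : Subgroup ↥(CI b) := zpowers (toCI hab.symm)
  have hT : IsPGroup 2 ↥T := by
    obtain ⟨k, hk⟩ := ha
    rintro ⟨c, hc⟩
    obtain ⟨i, rfl⟩ := hc
    refine ⟨k, Subtype.ext ?_⟩
    show ((toCI hab.symm) ^ i) ^ 2 ^ k = 1
    rw [← zpow_natCast, ← zpow_mul, mul_comm, zpow_mul, zpow_natCast,
      show (toCI hab.symm) ^ 2 ^ k = 1 from Subtype.ext (by simpa using hk), one_zpow]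
  let e : ↥(centralizer ({toCI hab} : Set ↥(CI a))) ≃* ↥(centralizer (T : Set ↥(CI b))) :=
    { toFun := fun w => ⟨⟨((w : ↥(CI a)) : G), hmem w⟩, by
        rw [centralizer_zpowers, mem_centralizer_singleton_iff]
        exact Subtype.ext (comm_of_mem (w : ↥(CI a)).2)⟩
      invFun := fun w => ⟨⟨((w : ↥(CI b)) : G), mem_centralizer_singleton_iff.2 (by
        have hw : (w : ↥(CI b)) ∈ centralizer ({toCI hab.symm} : Set ↥(CI b)) := by
          rw [← centralizer_zpowers]; exact w.2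
        rw [mem_centralizer_singleton_iff] at hw
        exact congrArg Subtype.val hw)⟩,
        mem_centralizer_singleton_iff.2 (Subtype.ext (comm_of_mem (w : ↥(CI b)).2))⟩
      left_inv := fun w => Subtype.ext (Subtype.ext rfl)
      right_inv := fun w => Subtype.ext (Subtype.ext rfl)
      map_mul' := fun w w' => Subtype.ext (Subtype.ext rfl) }
  exact ⟨_, pLayer_centralizer_le hT ⟨_, pLayer_map_le e h, rfl⟩, rfl⟩

theorem conj_lay {a b v : G} (g : G) (hg : g * a * g⁻¹ = b) (hv : v ∈ lay a) :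
    g * v * g⁻¹ ∈ lay b := by
  obtain ⟨w, hw, rfl⟩ := hv
  have hmap : (CI a).map (MulAut.conj g).toMonoidHom = CI b := by
    subst hg
    ext c
    constructor
    · rintro ⟨d, hd, rfl⟩
      rw [mem_centralizer_singleton_iff]
      show g * d * g⁻¹ * (g * a * g⁻¹) = g * a * g⁻¹ * (g * d * g⁻¹)
      calc g * d * g⁻¹ * (g * a * g⁻¹) = g * (d * a) * g⁻¹ := by group
        _ = g * (a * d) * g⁻¹ := by rw [comm_of_mem hd]
        _ = _ := by group
    · intro hc
      refine ⟨g⁻¹ * c * g, mem_centralizer_singleton_iff.2 ?_, by simp [mul_assoc]⟩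
      calc g⁻¹ * c * g * a = g⁻¹ * (c * (g * a * g⁻¹)) * g := by group
        _ = g⁻¹ * ((g * a * g⁻¹) * c) * g := by rw [comm_of_mem hc]
        _ = _ := by group
  let e : ↥(CI a) ≃* ↥(CI b) :=
    ((MulAut.conj g).subgroupMap (CI a)).trans (MulEquiv.subgroupCongr hmap)
  exact ⟨_, pLayer_map_le e hw, rfl⟩

/-- The lift, between two centralisers. -/
theorem lift_cross {z t : G} (hzt : t * z = z * t) (hz : ∃ k : ℕ, z ^ 2 ^ k = 1)
    (ht : ∃ k : ℕ, t ^ 2 ^ k = 1) {Γ : Subgroup (↥(CI z) ⧸ Cfsg.pPrimeCore 2 ↥(CI z))}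
    (hΓ : Cfsg.IsQuasisimple ↥Γ)
    (hc : Γ ≤ centralizer ({toModCore 2 ↥(CI z) (toCI hzt)} : Set _))
    (hs : (Γ.subgroupOf (centralizer ({toModCore 2 ↥(CI z) (toCI hzt)} : Set _))).IsSubnormal)
    {w : G} (hwz : w ∈ CI z) (hwt : w * t = t * w)
    (hwΓ : toModCore 2 ↥(CI z) ⟨w, hwz⟩ ∈ Γ) (h2 : ∃ k : ℕ, w ^ 2 ^ k = 1) : w ∈ lay t := by
  have hw' : (⟨w, hwz⟩ : ↥(CI z)) ∈ centralizer ({toCI hzt} : Set ↥(CI z)) :=
    mem_centralizer_singleton_iff.2 (Subtype.ext hwt)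
  have ht' : ∃ k : ℕ, (toCI hzt) ^ 2 ^ k = 1 := by
    obtain ⟨k, hk⟩ := ht
    exact ⟨k, Subtype.ext (by simpa using hk)⟩
  refine cross hz hzt ((lift ht' hΓ hc hs).2 _ hw' hwΓ ?_)
  obtain ⟨k, hk⟩ := h2
  exact ⟨k, Subtype.ext (by simpa using hk)⟩

/-- An element centralising a component modulo the core: its centraliser meets the component in
the 2-layer of that element. -/
theorem cover {z t : G} (hzt : t * z = z * t) (hz : ∃ k : ℕ, z ^ 2 ^ k = 1)
    (ht : ∃ k : ℕ, t ^ 2 ^ k = 1) {K : Subgroup ↥(CI z)} (hK : Cfsg.IsPComponent 2 K)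
    (hcent : ∀ k ∈ K, toModCore 2 ↥(CI z) (toCI hzt * k * (toCI hzt)⁻¹) =
      toModCore 2 ↥(CI z) k)
    {w : G} (hwz : w ∈ CI z) (hwt : w * t = t * w)
    (hwK : toModCore 2 ↥(CI z) ⟨w, hwz⟩ ∈ K.map (toModCore 2 ↥(CI z)))
    (h2 : ∃ k : ℕ, w ^ 2 ^ k = 1) : w ∈ lay t := by
  refine lift_cross hzt hz ht hK.2.1.2 ?_ hK.2.1.1.subgroupOf hwz hwt hwK h2
  rintro _ ⟨k, hk, rfl⟩
  rw [mem_centralizer_singleton_iff, ← map_mul, ← map_mul]
  have := hcent k hk
  rw [map_mul, map_mul, map_inv, mul_inv_eq_iff_eq_mul] at this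
  rw [map_mul, map_mul]
  exact this.symm

end CfsgLib.Comp.Intrinsic
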