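import Cfsg.Agent.Lib.Comp.Intrinsic.Basic
import Cfsg.Agent.Lib.Comp.LBalance
import Cfsg.Agent.S1314

/-!
Lifting components of centralisers in the quotient by the core, diagonal components, and the
small image lemma.
-/

set_option autoImplicit false
set_option linter.unusedSectionVars false

open Subgroup
open scoped commutatorElement

namespace CfsgLib.Comp.Intrinsic

universe u v w

variable {C : Type u} [Group C] [Finite C] {J : Subgroup C} {x : C}

local notation "𝔮" => toModCore 2 C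

/-- A quasisimple subnormal subgroup of `C(t)` modulo the core lifts into `C(t)`, with its
2-elements in the 2-layer of `C(t)`. -/
theorem lift {t : C} (ht : ∃ k : ℕ, t ^ 2 ^ k = 1) {Γ : Subgroup (C ⧸ Cfsg.pPrimeCore 2 C)}
    (hΓ : Cfsg.IsQuasisimple ↥Γ) (hc : Γ ≤ centralizer ({𝔮 t} : Set _))
    (hs : (Γ.subgroupOf (centralizer ({𝔮 t} : Set _))).IsSubnormal) :
    (∀ γ ∈ Γ, ∃ w ∈ centralizer ({t} : Set C), 𝔮 w = γ) ∧
      ∀ w, ∀ hw : w ∈ centralizer ({t} : Set C), 𝔮 w ∈ Γ → (∃ k : ℕ, w ^ 2 ^ k = 1) →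
        (⟨w, hw⟩ : ↥(centralizer ({t} : Set C))) ∈ Cfsg.pLayer 2 ↥(centralizer ({t} : Set C)) := by
  obtain ⟨m, hm⟩ := ht
  have hT : IsPGroup 2 ↥(zpowers t) := fun ⟨a, ha⟩ => by
    obtain ⟨i, rfl⟩ := ha
    exact ⟨m, Subtype.ext (by
      show (t ^ i) ^ 2 ^ m = 1
      rw [← zpow_natCast, ← zpow_mul, mul_comm, zpow_mul, zpow_natCast, hm, one_zpow])⟩
  have hmap : (centralizer ({t} : Set C)).map 𝔮 = centralizer ({𝔮 t} : Set _) := by
    have h := map_centralizer_eq (O := Cfsg.pPrimeCore 2 C) (coprime_card_pPrimeCore 2 C) hT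
    rw [MonoidHom.map_zpowers, centralizer_zpowers, centralizer_zpowers] at h
    exact h
  refine ⟨fun γ hγ => hmap.ge (hc hγ), fun w hw hwΓ h2 => ?_⟩
  set D := centralizer ({t} : Set C)
  let g : ↥D →* ↥(centralizer ({𝔮 t} : Set (C ⧸ Cfsg.pPrimeCore 2 C))) :=
    (toModCore 2 C |>.comp D.subtype).codRestrict _ fun c => hmap.le (mem_map_of_mem _ c.2)
  set V := (Γ.subgroupOf (centralizer ({𝔮 t} : Set _))).comap g with hV
  let a : ↥V →* ↥Γ := ((toModCore 2 C).comp (D.subtype.comp V.subtype)).codRestrict Γ fun v => v.2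
  have ha : Function.Surjective a := fun γ => by
    obtain ⟨c, hcD, e⟩ := hmap.ge (hc γ.2)
    exact ⟨⟨⟨c, hcD⟩, show 𝔮 c ∈ Γ from e ▸ γ.2⟩, Subtype.ext e⟩
  have hker : ∀ v, a v = 1 → V.subtype v ∈ Cfsg.pPrimeCore 2 ↥D := fun v hv => by
    have hle : (Cfsg.pPrimeCore 2 C).subgroupOf D ≤ Cfsg.pPrimeCore 2 ↥D := by
      have := Cfsg.pPrimeCore_normal 2 C
      refine le_sSup ⟨inferInstance, Nat.Coprime.coprime_dvd_left ?_ (coprime_card_pPrimeCore 2 C)⟩
      rw [← card_map_of_injective D.subtype_injective (K := (Cfsg.pPrimeCore 2 C).subgroupOf D),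
        subgroupOf_map_subtype]
      exact card_dvd_of_le inf_le_left
    exact hle ((QuotientGroup.eq_one_iff (((v : ↥D) : C))).1 (congrArg Subtype.val hv))
  have hrange : V.subtype.range.IsSubnormal := by
    rw [range_subtype]; exact hs.comap g
  have h1 := range_le_pLayer_sup_core hΓ a ha V.subtype hrange hker
  have : (Cfsg.pLayer 2 ↥D).Normal := pLayer_normal 2 ↥D
  obtain ⟨k, hk⟩ := h2
  exact mem_of_two_element (Nat.coprime_two_right.1 (coprime_card_pPrimeCore 2 ↥D))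
    (h1 ⟨⟨⟨w, hw⟩, show 𝔮 w ∈ Γ from hwΓ⟩, rfl⟩) ⟨k, Subtype.ext (by simpa using hk)⟩

/-- The small image lemma. -/
theorem small_image {W : Type v} [Group W] [Finite W] {X : Type w} [Group X] [Finite X]
    {A : Type*} [Group A] (φ : W →* X) (hφ : Function.Surjective φ)
    (hker : ∀ a, φ a = 1 → Odd (orderOf a)) (hX : Cfsg.IsQuasisimple X) (ψ : W →* A)
    (hlt : Nat.card ψ.range < (center X).index) {a : W} (ha : ∃ k : ℕ, a ^ 2 ^ k = 1) : ψ a = 1 := by
  obtain ⟨m, hm⟩ := ha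
  have hn : (ψ.ker.map φ).Normal := (inferInstance : ψ.ker.Normal).map φ hφ
  rcases normal_eq_top_or_le_center hX (ψ.ker.map φ) with e | e
  · obtain ⟨n, hn', en⟩ := e.ge (mem_top (φ a))
    have hb : φ (n⁻¹ * a) = 1 := by rw [map_mul, map_inv, en, inv_mul_cancel]
    have e1 : ψ a = ψ (n⁻¹ * a) := by
      rw [map_mul, map_inv, MonoidHom.mem_ker.1 hn', inv_one, one_mul]
    refine orderOf_eq_one_iff.1 (Nat.eq_one_of_dvd_coprimes
      ((Nat.coprime_two_left.2 (hker _ hb)).pow_left m) ?_ ?_)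
    · exact orderOf_dvd_of_pow_eq_one (by rw [← map_pow, hm, map_one])
    · rw [e1]; exact orderOf_map_dvd ψ _
  · exfalso
    rw [← index_ker] at hlt
    rw [← index_comap_of_surjective _ hφ] at hlt
    exact absurd (Nat.le_of_dvd (Nat.pos_of_ne_zero index_ne_zero_of_finite)
      (index_dvd_of_le (map_le_iff_le_comap.1 e))) (not_le.2 hlt)

/-- A normal subgroup containing all 2-elements maps onto a quasisimple image. -/
theorem map_two_eq_top {W : Type v} [Group W] [Finite W] {X : Type w} [Group X] [Finite X]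
    (φ : W →* X) (hφ : Function.Surjective φ) (hX : Cfsg.IsQuasisimple X) (N : Subgroup W)
    [N.Normal] (hN : ∀ a : W, (∃ k : ℕ, a ^ 2 ^ k = 1) → a ∈ N) : N.map φ = ⊤ := by
  have hn : (N.map φ).Normal := (inferInstance : N.Normal).map φ hφ
  refine (normal_eq_top_or_le_center hX (N.map φ)).resolve_right fun e => ?_
  have hodd : Odd N.index := by
    refine Nat.odd_iff.2 (Nat.two_dvd_ne_zero.1 fun hd => ?_)
    obtain ⟨P⟩ := (inferInstance : Nonempty (Sylow 2 W))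
    refine P.not_dvd_index (hd.trans (index_dvd_of_le fun a ha => hN a ?_))
    obtain ⟨k, hk⟩ := P.isPGroup' ⟨a, ha⟩
    exact ⟨k, by simpa using congrArg Subtype.val hk⟩
  have hz : Odd (center X).index := by
    refine hodd.of_dvd_nat ?_
    rw [← index_comap_of_surjective _ hφ]
    exact index_dvd_of_le (map_le_iff_le_comap.1 e)
  rw [index_eq_card] at hz
  have := Cfsg.Agent.S0205.result (G := X ⧸ center X) hz
  have hc : Group.IsSolvable ↥(center X) :=
    Group.isSolvable_of_comm fun a b => Subtype.ext (mem_center_iff.1 b.2 a)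
  exact not_isSolvable_of_isQuasisimple hX (Group.isSolvable_of_ker_le_range (center X).subtype
    (QuotientGroup.mk' (center X)) (by rw [QuotientGroup.ker_mk', range_subtype]))

namespace TwoComp

variable (h : TwoComp J x)
include h

omit h in
theorem mem_normalizer_image {g : C} (hg : g ∈ normalizer (J : Set C)) :
    𝔮 g ∈ normalizer ((J.map 𝔮 : Subgroup _) : Set _) :=
  le_normalizer_map (f := 𝔮) (H := J) (mem_map_of_mem _ hg)

/-- Elements of the 2-layer act on the image of `J` by inner automorphisms. -/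
theorem layer_inner {l : C} (hl : l ∈ Cfsg.pLayer 2 C) :
    ∃ d ∈ J, ∀ j ∈ J, 𝔮 (l * j * l⁻¹) = 𝔮 (d * j * d⁻¹) := by
  set Jb := J.map 𝔮
  have hle : Cfsg.layer (C ⧸ Cfsg.pPrimeCore 2 C) ≤ centralizer (Jb : Set _) ⊔ Jb :=
    sSup_le fun L hL => by
      rcases component_eq_or_le_centralizer hL h.comp.2.1 with e | e
      · exact e ▸ le_sup_right
      · exact e.trans le_sup_left
  have hlm : 𝔮 l ∈ Cfsg.layer (C ⧸ Cfsg.pPrimeCore 2 C) := pLayer_map 2 C ▸ mem_map_of_mem _ hl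
  obtain ⟨r, hr, _, ⟨d, hd, rfl⟩, hrd⟩ := exists_mul_of_mem_sup
    (le_normalizer.trans (normalizer_le_normalizer_centralizer Jb)) (hle hlm)
  refine ⟨d, hd, fun j hj => ?_⟩
  have := mem_centralizer_iff.1 hr _ (mem_map_of_mem 𝔮 (mul_mem (mul_mem hd hj) (inv_mem hd)))
  rw [map_mul, map_mul, map_inv, ← hrd]
  calc r * 𝔮 d * 𝔮 j * (r * 𝔮 d)⁻¹ = r * 𝔮 (d * j * d⁻¹) * r⁻¹ := by
        rw [map_mul, map_mul, map_inv]; group
    _ = 𝔮 (d * j * d⁻¹) := by rw [← this]; group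

/-- A preimage of a quasisimple group whose image in the layer commutes with a non-trivial
automorphism of `J` has its 2-elements centralising `J`. -/
theorem kill {W : Type v} [Group W] [Finite W] {X : Type w} [Group X] [Finite X]
    (φ : W →* X) (hφ : Function.Surjective φ) (hker : ∀ a, φ a = 1 → Odd (orderOf a))
    (hX : Cfsg.IsQuasisimple X) (hidx : (center ↥(J.map 𝔮)).index ≤ (center X).index)
    (f : W →* C) (h2 : ∀ a : W, (∃ k : ℕ, a ^ 2 ^ k = 1) → f a ∈ Cfsg.pLayer 2 C)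
    {s : C} (hs : s ∈ normalizer (J : Set C)) (hne : ∃ j ∈ J, 𝔮 (s * j * s⁻¹) ≠ 𝔮 j)
    (hcomm : ∀ a, 𝔮 s * 𝔮 (f a) = 𝔮 (f a) * 𝔮 s) {a : W} (ha : ∃ k : ℕ, a ^ 2 ^ k = 1)
    {j : C} (hj : j ∈ J) : 𝔮 (f a * j * (f a)⁻¹) = 𝔮 j := by
  have := pLayer_normal 2 C
  set N := (Cfsg.pLayer 2 C).comap f
  have hNn : N.Normal := inferInstance
  set Jb := J.map 𝔮
  have hNJ : ∀ n : N, 𝔮 (f n) ∈ normalizer (Jb : Set _) := fun n =>
    mem_normalizer_image (pLayer_le_normalizer h.comp n.2)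
  let ψ : ↥N →* MulAut ↥Jb :=
    Jb.normalizerMonoidHom.comp (((toModCore 2 C).comp (f.comp N.subtype)).codRestrict _ hNJ)
  let φN : ↥N →* X := φ.comp N.subtype
  have hφN : Function.Surjective φN := fun y => by
    obtain ⟨n, hn, e⟩ := (map_two_eq_top φ hφ hX N h2).ge (mem_top y)
    exact ⟨⟨n, hn⟩, e⟩
  let σ : MulAut ↥Jb := Jb.normalizerMonoidHom ⟨𝔮 s, mem_normalizer_image hs⟩
  have hσ : σ ≠ 1 := by
    obtain ⟨v, hv, hv'⟩ := hne
    intro e
    apply hv'
    have := congrArg Subtype.val (DFunLike.congr_fun e (⟨𝔮 v, mem_map_of_mem _ hv⟩ : ↥Jb))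
    rw [map_mul, map_mul, map_inv]
    exact this
  have hrange : ψ.range ≤ (MulAut.conj : ↥Jb →* MulAut ↥Jb).range := by
    rintro _ ⟨n, rfl⟩
    obtain ⟨d, hd, hdd⟩ := h.layer_inner n.2
    refine ⟨⟨𝔮 d, mem_map_of_mem _ hd⟩, MulEquiv.ext fun b => Subtype.ext ?_⟩
    obtain ⟨_, v, hv, rfl⟩ := b
    show 𝔮 d * 𝔮 v * (𝔮 d)⁻¹ = 𝔮 (f n) * 𝔮 v * (𝔮 (f n))⁻¹
    rw [← map_inv, ← map_mul, ← map_mul, ← map_inv, ← map_mul, ← map_mul]
    exact (hdd v hv).symm
  have hcard : Nat.card (MulAut.conj : ↥Jb →* MulAut ↥Jb).range = (center ↥Jb).index := by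
    rw [← index_ker]
    congr 1
    ext b
    rw [MonoidHom.mem_ker, mem_center_iff]
    constructor
    · intro e c
      have e2 : b * c * b⁻¹ = c := DFunLike.congr_fun e c
      exact (mul_inv_eq_iff_eq_mul.1 e2).symm
    · intro e
      refine MulEquiv.ext fun c => ?_
      show b * c * b⁻¹ = c
      rw [← e c, mul_inv_cancel_right]
  have hlt : Nat.card ψ.range < (center X).index := by
    refine lt_of_lt_of_le ?_ hidx
    rw [← hcard]
    refine lt_of_le_of_ne (Nat.le_of_dvd Nat.card_pos (card_dvd_of_le hrange)) fun e => hσ ?_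
    have heq := eq_of_le_of_card_ge hrange e.ge
    have hc : ∀ b : ↥Jb, MulAut.conj b * σ = σ * MulAut.conj b := by
      intro b
      obtain ⟨n, hn⟩ := heq.ge ⟨b, rfl⟩
      rw [← hn]
      refine MulEquiv.ext fun c => Subtype.ext ?_
      show 𝔮 (f n) * (𝔮 s * c * (𝔮 s)⁻¹) * (𝔮 (f n))⁻¹ =
        𝔮 s * (𝔮 (f n) * c * (𝔮 (f n))⁻¹) * (𝔮 s)⁻¹
      calc 𝔮 (f n) * (𝔮 s * c * (𝔮 s)⁻¹) * (𝔮 (f n))⁻¹
          = (𝔮 (f n) * 𝔮 s) * c * (𝔮 (f n) * 𝔮 s)⁻¹ := by group
        _ = (𝔮 s * 𝔮 (f n)) * c * (𝔮 s * 𝔮 (f n))⁻¹ := by rw [hcomm]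
        _ = _ := by group
    have : Group.IsPerfect ↥Jb := h.quasi.1
    refine MulEquiv.ext (mulEquiv_eq_of_perfect σ fun b => mem_center_iff.2 fun c => ?_)
    have key : ∀ d, b * d * b⁻¹ = σ b * d * (σ b)⁻¹ := by
      intro d
      obtain ⟨d', rfl⟩ : ∃ d', d = σ d' := ⟨σ.symm d, (σ.apply_symm_apply d).symm⟩
      have e1 : b * σ d' * b⁻¹ = σ (b * d' * b⁻¹) := DFunLike.congr_fun (hc b) d'
      rwa [map_mul, map_mul, map_inv] at e1
    calc c * (σ b * b⁻¹) = σ b * (b⁻¹ * c * b) * (σ b)⁻¹ * (σ b * b⁻¹) := by rw [← key]; group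
      _ = σ b * b⁻¹ * c := by group
  have hmain := small_image φN hφN (fun b hb => by
    have := hker b hb; rwa [Subgroup.orderOf_coe] at this) hX ψ hlt
    (a := ⟨a, h2 a ha⟩) (by obtain ⟨k, hk⟩ := ha; exact ⟨k, Subtype.ext (by simpa using hk)⟩)
  have := congrArg Subtype.val (DFunLike.congr_fun hmain (⟨𝔮 j, mem_map_of_mem _ hj⟩ : ↥Jb))
  rw [map_mul, map_mul, map_inv]
  exact this

/-- The diagonal subgroup of two components interchanged by an involution. -/
theorem exists_diag {t : C} (ht : t * t = 1) (hmove : J.map (MulAut.conj t).toMonoidHom ≠ J) :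
    ∃ Γ : Subgroup (C ⧸ Cfsg.pPrimeCore 2 C), Cfsg.IsQuasisimple ↥Γ ∧
      Γ ≤ centralizer ({𝔮 t} : Set _) ∧
      (Γ.subgroupOf (centralizer ({𝔮 t} : Set _))).IsSubnormal ∧
      (center ↥Γ).index = (center ↥(J.map 𝔮)).index ∧
      ∀ j ∈ J, 𝔮 (j * (t * j * t⁻¹)) ∈ Γ := by
  set Jb := J.map 𝔮
  set Jt := Jb.map (MulAut.conj (𝔮 t)).toMonoidHom with hJt
  have hJteq : (J.map (MulAut.conj t).toMonoidHom).map 𝔮 = Jt := by
    rw [hJt, Subgroup.map_map, Subgroup.map_map]; congr 1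
  have hJtc : Cfsg.IsComponent Jt := isComponent_map_conj h.comp.2.1 _
  have hne : Jb ≠ Jt := fun e => hmove (isPComponent_ext (isPComponent_map_conj h.comp t) h.comp
    (hJteq.trans e.symm))
  have hcomm : ⁅Jb, Jt⁆ = ⊥ := component_commutator_eq_bot h.comp.2.1 hJtc hne
  have ht1 : 𝔮 t ≠ 1 := fun e => hne (by rw [hJt, e, map_one]; exact (map_id Jb).symm)
  obtain ⟨π, hπ, -, hπc, hπcomm⟩ := Cfsg.Agent.S1314.result (𝔮 t)
    (orderOf_eq_prime (by rw [pow_two, ← map_mul, ht, map_one]) ht1) Jb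
    (commutator_self_of_isComponent h.comp.2.1) hcomm
  have hπj : ∀ j (hj : j ∈ J), π ⟨𝔮 j, mem_map_of_mem _ hj⟩ = 𝔮 (j * (t * j * t⁻¹)) := fun j hj => by
    rw [hπ, map_mul, map_mul, map_mul, map_inv]
  have hne1 : π.range ≠ ⊥ := by
    intro e
    obtain ⟨T⟩ := (inferInstance : Nonempty (Sylow 2 C))
    obtain ⟨u, huJ, -, hu⟩ := h.exists_order_four T
    have h1 : 𝔮 u * 𝔮 (t * u * t⁻¹) = 1 := by
      have := mem_bot.1 (e.le (⟨_, hπj u huJ⟩ : 𝔮 (u * (t * u * t⁻¹)) ∈ π.range))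
      rwa [map_mul] at this
    have h2 : 𝔮 u ∈ (J.map (MulAut.conj t).toMonoidHom).map 𝔮 := by
      rw [eq_inv_of_mul_eq_one_left h1, ← map_inv]
      exact mem_map_of_mem _ (inv_mem (mem_map_of_mem (MulAut.conj t).toMonoidHom huJ))
    rcases h.mem_two (isPComponent_map_conj h.comp t) hmove.symm huJ h2 with e1 | e1
    · refine h.q_x_ne_one ?_
      rw [← hu, map_mul, e1, mul_one]
    · refine h.q_x_ne_one ?_
      rw [← hu, map_mul, e1, h.q_x_sq]
  have : Nontrivial ↥π.range := (nontrivial_iff_ne_bot _).2 hne1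
  have hq : Cfsg.IsQuasisimple ↥π.range :=
    isQuasisimple_of_surjective h.quasi π.rangeRestrict_surjective
  refine ⟨π.range, hq, hπc, ?_, ?_, fun j hj => ⟨_, hπj j hj⟩⟩
  · set Cb := centralizer ({𝔮 t} : Set (C ⧸ Cfsg.pPrimeCore 2 C))
    set P := Jb ⊔ Jt
    have hPE : P ≤ Cfsg.layer _ := sup_le (le_layer h.comp.2.1) (le_layer hJtc)
    have hPs : P.IsSubnormal := isSubnormal_of_le_normalizer hPE
      (Subgroup.Normal.isSubnormal (layer_normal _))
      (le_normalizer_sup (layer_le_normalizer_component h.comp.2.1)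
        (layer_le_normalizer_component hJtc))
    rw [← hπcomm]
    have hPC : ((P ⊓ Cb).subgroupOf Cb).IsSubnormal := by
      rw [inf_subgroupOf_right]; exact hPs.subgroupOf
    refine isSubnormal_of_le_normalizer ?_ hPC ?_
    · exact fun a ha => commutator_le_self (P ⊓ Cb) ha
    · intro a ha
      have h1 : ((a : _) : C ⧸ Cfsg.pPrimeCore 2 C) ∈ normalizer
          ((⁅P ⊓ Cb, P ⊓ Cb⁆ : Subgroup _) : Set _) :=
        normalizer_commutator_ge_left (P ⊓ Cb) (P ⊓ Cb) ha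
      rw [mem_normalizer_iff] at h1 ⊢
      exact fun b => h1 b
  · have hsurj := π.rangeRestrict_surjective
    rw [← index_comap_of_surjective _ hsurj]
    congr 1
    refine le_antisymm ((normal_eq_top_or_le_center h.quasi _).resolve_left fun e => ?_) ?_
    · refine center_lt_top_of_isQuasisimple hq (top_le_iff.1 fun a _ => ?_)
      obtain ⟨b, hb⟩ := hsurj a
      exact hb ▸ e.ge (mem_top b)
    · intro a ha
      rw [mem_comap, mem_center_iff]
      intro b
      obtain ⟨c, rfl⟩ := hsurj b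
      rw [← map_mul, ← map_mul, mem_center_iff.1 ha c]

end TwoComp

end CfsgLib.Comp.Intrinsic
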