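import Cfsg.Agent.Lib.Comp.Intrinsic.Twist
import Cfsg.Agent.Lib.Comp.Intrinsic.Cross

/-!
Two intrinsic components: if the involution of one normalises the other, the converse holds, and
the 2-elements of order at least four of one centralising the involution of the other normalise it.
-/

set_option autoImplicit false
set_option linter.unusedSectionVars false
set_option maxHeartbeats 1000000

open Subgroup

namespace CfsgLib.Comp.Intrinsic

universe u

variable {G : Type u} [Group G] [Finite G]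

theorem exists_two_pow_of_sq {a : G} (h : a * a = 1) : ∃ k : ℕ, a ^ 2 ^ k = 1 :=
  ⟨1, by rw [pow_one, pow_two, h]⟩

theorem two_pow_coe {a : G} {C : Subgroup G} {ha : a ∈ C} (h : ∃ k : ℕ, a ^ 2 ^ k = 1) :
    ∃ k : ℕ, (⟨a, ha⟩ : ↥C) ^ 2 ^ k = 1 := by
  obtain ⟨k, hk⟩ := h
  exact ⟨k, Subtype.ext (by simpa using hk)⟩

theorem two_pow_val {C : Subgroup G} {a : ↥C} (h : ∃ k : ℕ, a ^ 2 ^ k = 1) :
    ∃ k : ℕ, (a : G) ^ 2 ^ k = 1 := by
  obtain ⟨k, hk⟩ := h
  exact ⟨k, by simpa using congrArg Subtype.val hk⟩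

theorem isPGroup_zpowers {C : Type*} [Group C] {a : C} (h : ∃ k : ℕ, a ^ 2 ^ k = 1) :
    IsPGroup 2 ↥(zpowers a) := by
  obtain ⟨k, hk⟩ := h
  rintro ⟨c, hc⟩
  obtain ⟨i, rfl⟩ := hc
  exact ⟨k, Subtype.ext (by
    show (a ^ i) ^ 2 ^ k = 1
    rw [← zpow_natCast, ← zpow_mul, mul_comm, zpow_mul, zpow_natCast, hk, one_zpow])⟩

theorem isPGroup_closure_pair {C : Type*} [Group C] {a b : C} (ha : ∃ k : ℕ, a ^ 2 ^ k = 1)
    (hb : ∃ k : ℕ, b ^ 2 ^ k = 1) (hab : a * b = b * a) :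
    IsPGroup 2 ↥(zpowers a ⊔ zpowers b) := by
  refine (isPGroup_zpowers ha).to_sup_of_normal_right' (isPGroup_zpowers hb) ?_
  refine zpowers_le.2 (centralizer_le_normalizer _ ?_)
  rw [centralizer_zpowers, mem_centralizer_singleton_iff]
  exact hab

section

variable {x z : G} (hzx : z * x = x * z) {J : Subgroup ↥(CI x)} {K : Subgroup ↥(CI z)}
  (hJ : TwoComp J (toCI (rfl : x * x = x * x))) (hK : TwoComp K (toCI (rfl : z * z = z * z)))

set_option quotPrecheck false in
local notation "qx" => toModCore 2 ↥(CI x)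
set_option quotPrecheck false in
local notation "qz" => toModCore 2 ↥(CI z)

include hzx hJ hK

omit hK in
theorem inv_x : x * x = 1 := congrArg Subtype.val hJ.x_sq

/-- (ii): the involution of `K` normalises `J` if that of `J` normalises `K`. -/
theorem normalizes (hidx : (center ↥(J.map qx)).index = (center ↥(K.map qz)).index)
    (hxK : toCI hzx.symm ∈ normalizer (K : Set ↥(CI z))) :
    toCI hzx ∈ normalizer (J : Set ↥(CI x)) := by
  have hx2 : x * x = 1 := congrArg Subtype.val hJ.x_sq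
  have hz2 : z * z = 1 := congrArg Subtype.val hK.x_sq
  have hxi : x⁻¹ = x := inv_eq_of_mul_eq_one_right hx2
  have hzi : z⁻¹ = z := inv_eq_of_mul_eq_one_right hz2
  set t := toCI hzx with htdef
  set s := toCI hzx.symm with hsdef
  by_contra hmove
  -- `x` acts non-trivially on `K`
  by_cases htriv : ∀ k ∈ K, qz (s * k * s⁻¹) = qz k
  · refine hmove ?_
    have hzlay : z ∈ lay x := cover hzx.symm (exists_two_pow_of_sq hz2) (exists_two_pow_of_sq hx2)
      hK.comp htriv (mem_centralizer_singleton_iff.2 rfl) hzx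
      (mem_map_of_mem qz hK.mem) (exists_two_pow_of_sq hz2)
    exact pLayer_le_normalizer hJ.comp ((mem_lay (h := mem_centralizer_singleton_iff.2 hzx)).1 hzlay)
  push Not at htriv
  have ht2 : t * t = 1 := Subtype.ext hz2
  have hti : t⁻¹ = t := inv_eq_of_mul_eq_one_right ht2
  have hmove' : J.map (MulAut.conj t).toMonoidHom ≠ J := fun e => hmove (map_conj_eq_iff.1 e)
  have hJt := isPComponent_map_conj (p := 2) hJ.comp t
  obtain ⟨T, hT⟩ := (isPGroup_zpowers (exists_two_pow_of_sq ht2)).exists_le_sylow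
  have htT : t ∈ (T : Subgroup ↥(CI x)) := hT (mem_zpowers t)
  obtain ⟨j, hjJ, hjT, hj2⟩ := hJ.exists_order_four T
  set jt := t * j * t⁻¹ with hjt
  have hjtT : jt ∈ (T : Subgroup ↥(CI x)) :=
    mul_mem (mul_mem htT hjT) ((T : Subgroup ↥(CI x)).inv_mem htT)
  have hjtJ : jt ∈ J.map (MulAut.conj t).toMonoidHom := ⟨j, hjJ, rfl⟩
  have hqc : qx j * qx jt = qx jt * qx j := TwoComp.commute_of_ne hJ.comp hJt hmove'.symm hjJ hjtJ
  have hcj : j * jt = jt * j := eq_of_map_eq T.isPGroup' (mul_mem hjT hjtT) (mul_mem hjtT hjT)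
    (by rw [map_mul qx j, map_mul qx jt, hqc])
  set x' : ↥(CI x) := toCI (rfl : x * x = x * x) with hx'
  have hx'c : ∀ c : ↥(CI x), c * x' = x' * c := fun c => mem_center_iff.1 hJ.cent c
  have hjt2 : jt * jt = x' := by
    rw [hjt, show t * j * t⁻¹ * (t * j * t⁻¹) = t * (j * j) * t⁻¹ by group, hj2, hx'c t,
      mul_inv_cancel_right]
  set d := j * jt with hd
  have hd2 : d * d = 1 := by
    rw [hd, show j * jt * (j * jt) = j * (jt * j) * jt by group, ← hcj,
      show j * (j * jt) * jt = (j * j) * (jt * jt) by group, hj2, hjt2, hJ.x_sq]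
  have hdt : t * d = d * t := by
    rw [hd, ← mul_inv_eq_iff_eq_mul, show t * (j * jt) * t⁻¹ = t * j * t⁻¹ * (t * jt * t⁻¹) by group,
      ← hjt, show t * jt * t⁻¹ = (t * t) * j * (t * t)⁻¹ by rw [hjt]; group, ht2, inv_one, mul_one,
      one_mul, ← hcj]
  have hdz : (d : G) * z = z * d := (congrArg Subtype.val hdt).symm
  have hdx : (d : G) * x = x * d := comm_of_mem d.2
  have hd2' : (d : G) * d = 1 := congrArg Subtype.val hd2
  -- `d` centralises `K` modulo the core
  obtain ⟨Γ, hΓq, hΓc, hΓs, hΓi, hΓmem⟩ := hJ.exists_diag ht2 hmove'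
  set W := Γ.comap qx ⊓ centralizer ({t} : Set ↥(CI x))
  have hWz : ∀ w : W, ((w : ↥(CI x)) : G) * z = z * ((w : ↥(CI x)) : G) := fun w =>
    congrArg Subtype.val (mem_centralizer_singleton_iff.1 w.2.2)
  let f : ↥W →* ↥(CI z) := ((CI x).subtype.comp W.subtype).codRestrict _ fun w =>
    mem_centralizer_singleton_iff.2 (hWz w)
  have hdK : ∀ k ∈ K, qz (toCI hdz * k * (toCI hdz)⁻¹) = qz k := by
    intro k hk
    refine TwoComp.kill hK (((qx).comp W.subtype).codRestrict Γ fun w => w.2.1)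
      ?_ ?_ hΓq ?_ f ?_ (s := s) hxK htriv ?_ (a := ⟨d, ?_, ?_⟩) ?_ hk
    · rintro ⟨γ, hγ⟩
      obtain ⟨w, hw, e⟩ := (lift (exists_two_pow_of_sq ht2) hΓq hΓc hΓs).1 γ hγ
      exact ⟨⟨w, show qx w ∈ Γ from e.symm ▸ hγ, hw⟩, Subtype.ext e⟩
    · intro a ha
      rw [← Subgroup.orderOf_coe]
      exact Odd.of_dvd_nat (Nat.coprime_two_right.1 (coprime_card_pPrimeCore 2 ↥(CI x)))
        (Subgroup.orderOf_dvd_natCard _ ((QuotientGroup.eq_one_iff _).1 (congrArg Subtype.val ha)))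
    · rw [hΓi, hidx]
    · intro a ha
      refine (mem_lay (h := mem_centralizer_singleton_iff.2 (hWz a))).1 ?_
      exact lift_cross hzx (exists_two_pow_of_sq hx2) (exists_two_pow_of_sq hz2) hΓq hΓc hΓs
        (a : ↥(CI x)).2 (hWz a) a.2.1 (two_pow_val (two_pow_val ha))
    · intro a
      rw [← map_mul, ← map_mul]
      exact congrArg qz (Subtype.ext (comm_of_mem (a : ↥(CI x)).2).symm)
    · exact hΓmem j hjJ
    · exact mem_centralizer_singleton_iff.2 hdt.symm
    · exact exists_two_pow_of_sq (Subtype.ext hd2)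
  -- an element of order four of `K` inverted by `x`
  set s' : ↥(CI z) := toCI (rfl : z * z = z * z) with hs'
  have hsd : s * toCI hdz = toCI hdz * s := Subtype.ext hdx.symm
  obtain ⟨T₂, hT₂⟩ := (isPGroup_closure_pair (exists_two_pow_of_sq (a := s) (Subtype.ext hx2))
    (exists_two_pow_of_sq (a := toCI hdz) (Subtype.ext hd2')) hsd).exists_le_sylow
  have hsT : s ∈ (T₂ : Subgroup ↥(CI z)) := hT₂ (mem_sup_left (mem_zpowers s))
  have hdT : toCI hdz ∈ (T₂ : Subgroup ↥(CI z)) := hT₂ (mem_sup_right (mem_zpowers _))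
  obtain ⟨p, hpK, -, -, hpT, hp2, hpinv, -⟩ :=
    hK.exists_twist T₂ hsT (Subtype.ext hx2) hxK htriv
  have hpd : toCI hdz * p * (toCI hdz)⁻¹ = p := eq_of_map_eq T₂.isPGroup'
    (mul_mem (mul_mem hdT hpT) ((T₂ : Subgroup ↥(CI z)).inv_mem hdT)) hpT (hdK p hpK)
  have hp2' : (p : G) * p = z := congrArg Subtype.val hp2
  have hpinv' : x * (p : G) * x⁻¹ = (p : G)⁻¹ := congrArg Subtype.val hpinv
  have hpd' : (d : G) * p * (d : G)⁻¹ = p := congrArg Subtype.val hpd
  have hjx : (j : G) * x = x * j := comm_of_mem j.2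
  have hjd : (j : G) * d * (j : G)⁻¹ = d := by
    show ((j * d * j⁻¹ : ↥(CI x)) : G) = d
    refine congrArg Subtype.val ?_
    rw [hd, show j * (j * jt) * j⁻¹ = j * (jt * j) * j⁻¹ by rw [← hcj, hd]]
    group
  have hjz : (j : G) * z * (j : G)⁻¹ = d * x * z := by
    have h1 : j * t * j⁻¹ = d * x' * t := by
      have h2 : jt⁻¹ = jt * x' := inv_eq_of_mul_eq_one_right (by rw [← mul_assoc, hjt2, hJ.x_sq])
      calc j * t * j⁻¹ = j * (t * j⁻¹ * t⁻¹) * t := by group
        _ = j * jt⁻¹ * t := by rw [hjt]; group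
        _ = d * x' * t := by rw [h2, hd]; group
    exact congrArg Subtype.val h1
  have hpx : (p : G) * x * (p : G)⁻¹ = z * x := by
    calc (p : G) * x * (p : G)⁻¹ = p * (x * (p : G)⁻¹ * x⁻¹) * x := by group
      _ = p * p * x := by
        rw [show x * (p : G)⁻¹ * x⁻¹ = (x * (p : G) * x⁻¹)⁻¹ by group, hpinv', inv_inv]
      _ = z * x := by rw [hp2']
  have hpdc : (p : G) * d * (p : G)⁻¹ = d := by
    rw [mul_inv_eq_iff_eq_mul] at hpd'
    rw [← hpd', mul_inv_cancel_right]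
  set g := (j : G) * p * j with hg
  set e := (d : G) * x with he
  set w := z * (d : G) with hw
  have hgconj : ∀ a : G, g * a * g⁻¹ =
      (j : G) * ((p : G) * ((j : G) * a * (j : G)⁻¹) * (p : G)⁻¹) * (j : G)⁻¹ := fun a => by
    rw [hg]; group
  have hjfix : (j : G) * x * (j : G)⁻¹ = x := by rw [hjx, mul_inv_cancel_right]
  have hgx : g * x * g⁻¹ = w := by
    rw [hgconj, hjfix, hpx,
      show (j : G) * (z * x) * (j : G)⁻¹ = ((j : G) * z * (j : G)⁻¹) * ((j : G) * x * (j : G)⁻¹) by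
        group, hjz, hjfix, hw]
    rw [show (d : G) * x * z * x = d * (x * z * x) by group, ← hzx, mul_assoc z, hx2, mul_one, hdz]
  have hgd : g * d * g⁻¹ = d := by rw [hgconj, hjd, hpdc, hjd]
  have hge : g * e * g⁻¹ = z := by
    rw [he, show g * ((d : G) * x) * g⁻¹ = (g * d * g⁻¹) * (g * x * g⁻¹) by group, hgd, hgx, hw,
      ← mul_assoc, hdz, mul_assoc, hd2', mul_one]
  have hwz : w * z = z * w := by rw [hw, mul_assoc, hdz]
  have hw2 : w * w = 1 := by
    rw [hw, show z * (d : G) * (z * d) = z * (d * z) * d by group, hdz,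
      show z * (z * (d : G)) * d = (z * z) * (d * d) by group, hz2, hd2', one_mul]
  have hwK : ∀ k ∈ K, qz (toCI hwz * k * (toCI hwz)⁻¹) = qz k := by
    intro k hk
    have e1 : toCI hwz = s' * toCI hdz := Subtype.ext hw
    have hc : ∀ c : ↥(CI z), s' * c = c * s' := fun c => (mem_center_iff.1 hK.cent c).symm
    rw [e1, show s' * toCI hdz * k * (s' * toCI hdz)⁻¹ =
      s' * (toCI hdz * k * (toCI hdz)⁻¹) * s'⁻¹ by group, hc, mul_inv_cancel_right]
    exact hdK k hk
  -- transport the cover of `K` in `C(w)` into `C(x)`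
  set W₄ := (K.map qz).comap qz ⊓ centralizer ({toCI hwz} : Set ↥(CI z))
  have hW₄w : ∀ v : W₄, ((v : ↥(CI z)) : G) * w = w * ((v : ↥(CI z)) : G) := fun v =>
    congrArg Subtype.val (mem_centralizer_singleton_iff.1 v.2.2)
  have hW₄x : ∀ v : W₄, g⁻¹ * ((v : ↥(CI z)) : G) * g ∈ CI x := fun v => by
    rw [mem_centralizer_singleton_iff]
    have e1 : x = g⁻¹ * w * g := by rw [← hgx]; group
    calc g⁻¹ * ((v : ↥(CI z)) : G) * g * x = g⁻¹ * (((v : ↥(CI z)) : G) * w) * g := by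
          rw [e1]; group
      _ = g⁻¹ * (w * ((v : ↥(CI z)) : G)) * g := by rw [hW₄w v]
      _ = x * (g⁻¹ * ((v : ↥(CI z)) : G) * g) := by rw [e1]; group
  let f₄ : ↥W₄ →* ↥(CI x) :=
    (((MulAut.conj g⁻¹).toMonoidHom).comp ((CI z).subtype.comp W₄.subtype)).codRestrict _
      fun v => by simpa using hW₄x v
  have hf₄ : ∀ v : W₄, ((f₄ v : ↥(CI x)) : G) = g⁻¹ * ((v : ↥(CI z)) : G) * g := fun v => by
    show g⁻¹ * ((v : ↥(CI z)) : G) * g⁻¹⁻¹ = _
    rw [inv_inv]
  set e' : ↥(CI x) := d * x' with he'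
  have hz4 : s' ∈ W₄ := ⟨mem_map_of_mem qz hK.mem, mem_centralizer_singleton_iff.2
    (Subtype.ext hwz.symm)⟩
  have hfz : f₄ ⟨s', hz4⟩ = e' := Subtype.ext (by
    rw [hf₄]
    show g⁻¹ * z * g = (d : G) * x
    rw [← he, ← hge]; group)
  have heact : ∀ v ∈ J, qx (e' * v * e'⁻¹) = qx (j * v * j⁻¹) := by
    intro v hv
    have h1 : qx jt * qx v = qx v * qx jt :=
      (TwoComp.commute_of_ne hJ.comp hJt hmove'.symm hv hjtJ).symm
    calc qx (e' * v * e'⁻¹) = qx (d * (x' * v * x'⁻¹) * d⁻¹) := by rw [he']; congr 1; group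
      _ = qx (d * v * d⁻¹) := by rw [← hx'c v, mul_inv_cancel_right]
      _ = qx j * (qx jt * qx v * (qx jt)⁻¹) * (qx j)⁻¹ := by
        rw [hd, map_mul qx (j * jt * v), map_mul qx (j * jt) v, map_inv, map_mul qx j jt]; group
      _ = qx (j * v * j⁻¹) := by rw [h1, mul_inv_cancel_right, map_mul, map_mul, map_inv]
  have henorm : e' ∈ normalizer (J : Set ↥(CI x)) := by
    refine mul_mem (mul_mem (le_normalizer hjJ) ?_) (centralizer_le_normalizer _ ?_)
    · exact pLayer_le_normalizer hJ.comp ((le_sSup hJt : _ ≤ Cfsg.pLayer 2 _) hjtJ)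
    · exact mem_centralizer_iff.2 fun c _ => hx'c c
  have hene : ∃ v ∈ J, qx (e' * v * e'⁻¹) ≠ qx v := by
    by_contra hcon
    push Not at hcon
    have hc : (⟨qx j, mem_map_of_mem _ hjJ⟩ : ↥(J.map qx)) ∈ center ↥(J.map qx) := by
      rw [mem_center_iff]
      rintro ⟨_, v, hv, rfl⟩
      refine Subtype.ext ?_
      show qx v * qx j = qx j * qx v
      have := (heact v hv).symm.trans (hcon v hv)
      rw [map_mul, map_mul, map_inv, mul_inv_eq_iff_eq_mul] at this
      exact this.symm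
    refine hJ.q_x_ne_one ?_
    rw [← hj2, map_mul]
    rcases hJ.eq_of_mem_center hc with e1 | e1 <;> simp only at e1 <;> rw [e1]
    · exact one_mul _
    · exact hJ.q_x_sq
  have hkill : ∀ v ∈ J, qx (e' * v * e'⁻¹) = qx v := by
    intro v hv
    rw [← hfz]
    refine TwoComp.kill hJ (((qz).comp W₄.subtype).codRestrict (K.map qz) fun a => a.2.1)
      ?_ ?_ hK.quasi hidx.le f₄ ?_ (s := e') henorm hene ?_
      (a := ⟨s', hz4⟩) (exists_two_pow_of_sq (Subtype.ext hK.x_sq)) hv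
    · rintro ⟨γ, hγ⟩
      have hc : K.map qz ≤ centralizer ({qz (toCI hwz)} : Set _) := by
        rintro _ ⟨k, hk, rfl⟩
        have := hwK k hk
        rw [map_mul, map_mul, map_inv, mul_inv_eq_iff_eq_mul] at this
        exact mem_centralizer_singleton_iff.2 this.symm
      obtain ⟨v, hv, e1⟩ := (lift (exists_two_pow_of_sq (a := toCI hwz) (Subtype.ext hw2))
        hK.quasi hc hK.comp.2.1.1.subgroupOf).1 γ hγ
      exact ⟨⟨v, show qz v ∈ K.map qz from e1.symm ▸ hγ, hv⟩, Subtype.ext e1⟩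
    · intro a ha
      rw [← Subgroup.orderOf_coe]
      exact Odd.of_dvd_nat (Nat.coprime_two_right.1 (coprime_card_pPrimeCore 2 ↥(CI z)))
        (Subgroup.orderOf_dvd_natCard _ ((QuotientGroup.eq_one_iff _).1 (congrArg Subtype.val ha)))
    · intro a ha
      have hv := cover hwz (exists_two_pow_of_sq hz2) (exists_two_pow_of_sq hw2) hK.comp hwK
        (a : ↥(CI z)).2 (hW₄w a) a.2.1 (two_pow_val (two_pow_val ha))
      have hv' := conj_lay g⁻¹ (a := w) (b := x) (by rw [← hgx]; group) hv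
      refine (mem_lay (h := (f₄ a).2)).1 ?_
      rw [hf₄]
      rwa [inv_inv] at hv'
    · intro a
      rw [← map_mul, ← map_mul, ← hfz, ← map_mul, ← map_mul]
      exact congrArg (fun b => qx (f₄ b)) (Subtype.ext (Subtype.ext
        (comm_of_mem (a : ↥(CI z)).2).symm))
  obtain ⟨v, hv, hne⟩ := hene
  exact hne (hkill v hv)

/-- (i), the core case: a 2-element of `K` centralising `x` whose square normalises `J`
normalises `J`. -/
theorem normalizes_elt (hne : x ≠ z)
    (hidx : (center ↥(J.map qx)).index = (center ↥(K.map qz)).index)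
    (htJ : toCI hzx ∈ normalizer (J : Set ↥(CI x))) {y : G} (hyz : y * z = z * y)
    (hyK : toCI hyz ∈ K) (hyx : y * x = x * y) {n : ℕ} (hn : orderOf y = 2 ^ (n + 2))
    (hsq : toCI hyx * toCI hyx ∈ normalizer (J : Set ↥(CI x))) :
    toCI hyx ∈ normalizer (J : Set ↥(CI x)) := by
  have hx2 : x * x = 1 := congrArg Subtype.val hJ.x_sq
  have hz2 : z * z = 1 := congrArg Subtype.val hK.x_sq
  have hxi : x⁻¹ = x := inv_eq_of_mul_eq_one_right hx2
  have hy2 : ∃ k : ℕ, y ^ 2 ^ k = 1 := ⟨n + 2, hn ▸ pow_orderOf_eq_one y⟩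
  -- `z` is the involution of `⟨y⟩`
  have hzy : z = (y * y) ^ 2 ^ n := by
    have h1 : orderOf ((y * y) ^ 2 ^ n) = 2 := by
      rw [← pow_two, ← pow_mul, show 2 * 2 ^ n = 2 ^ (n + 1) by rw [pow_succ]; ring,
        orderOf_pow, hn, Nat.gcd_eq_right (pow_dvd_pow 2 (by omega)),
        Nat.pow_div (by omega) two_pos]
      simp
    have h2 := hK.uniq ((toCI hyz * toCI hyz) ^ 2 ^ n) (pow_mem (mul_mem hyK hyK) _) (by
      rw [← Subgroup.orderOf_coe]; simpa using h1)
    have h3 := congrArg Subtype.val h2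
    simpa using h3.symm
  set t := toCI hzx with htdef
  set yc := toCI hyx with hycdef
  set x' : ↥(CI x) := toCI (rfl : x * x = x * x) with hx'
  have hx'c : ∀ c : ↥(CI x), c * x' = x' * c := fun c => mem_center_iff.1 hJ.cent c
  have htyc : t = (yc * yc) ^ 2 ^ n := Subtype.ext (by simpa using hzy)
  obtain ⟨T, hT⟩ := (isPGroup_zpowers (a := yc) (two_pow_coe hy2)).exists_le_sylow
  have hyT : yc ∈ (T : Subgroup ↥(CI x)) := hT (mem_zpowers yc)
  have htT : t ∈ (T : Subgroup ↥(CI x)) := htyc ▸ pow_mem (mul_mem hyT hyT) _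
  have ht2 : t * t = 1 := Subtype.ext hz2
  by_contra hmove
  have hmove' : J.map (MulAut.conj yc).toMonoidHom ≠ J := fun e => hmove (map_conj_eq_iff.1 e)
  have hJy := isPComponent_map_conj (p := 2) hJ.comp yc
  -- elements of `J ∩ T` and their conjugates commute
  have hcomm : ∀ a ∈ J, a ∈ (T : Subgroup ↥(CI x)) → ∀ b ∈ J, b ∈ (T : Subgroup ↥(CI x)) →
      a * (yc * b * yc⁻¹) = yc * b * yc⁻¹ * a := by
    intro a ha haT b hb hbT
    have hbT' : yc * b * yc⁻¹ ∈ (T : Subgroup ↥(CI x)) :=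
      mul_mem (mul_mem hyT hbT) ((T : Subgroup ↥(CI x)).inv_mem hyT)
    refine eq_of_map_eq T.isPGroup' (mul_mem haT hbT') (mul_mem hbT' haT) ?_
    rw [map_mul qx a, map_mul qx _ a]
    exact TwoComp.commute_of_ne hJ.comp hJy hmove'.symm ha ⟨b, hb, rfl⟩
  -- a 2-element of `J` in `K` is trivial
  have hJK : ∀ a ∈ J, a ∈ (T : Subgroup ↥(CI x)) → ∀ haz : (a : G) * z = z * a,
      toCI haz ∈ K → a = 1 := by
    intro a ha haT haz haK
    obtain ⟨k, hk⟩ := T.isPGroup' ⟨a, haT⟩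
    replace hk : a ^ 2 ^ k = 1 := by simpa using congrArg Subtype.val hk
    induction k generalizing a with
    | zero => simpa using hk
    | succ m ih =>
      have h1 : a * a = 1 := ih (a * a) (mul_mem ha ha) (mul_mem haT haT)
        ((show Commute (a : G) z from haz).mul_left haz).eq
        (by
          have := mul_mem haK haK
          exact this)
        (by rw [← pow_two, ← pow_mul, ← pow_succ', hk])
      by_contra ha1
      have e1 := hJ.uniq a ha (orderOf_eq_prime (by rwa [pow_two]) ha1)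
      have e2 := hK.uniq (toCI haz) haK (orderOf_eq_prime (Subtype.ext (by
        show (a : G) ^ 2 = 1
        rw [pow_two]; exact congrArg Subtype.val h1))
        (fun e => ha1 (Subtype.ext (congrArg (fun b : ↥(CI z) => (b : G)) e))))
      have e3 : (a : G) = x := congrArg Subtype.val e1
      have e4 : (a : G) = z := congrArg Subtype.val e2
      exact hne (e3.symm.trans e4)
  by_cases htriv : ∀ v ∈ J, qx (t * v * t⁻¹) = qx v
  · -- `z` acts trivially on `J`
    obtain ⟨j, hjJ, hjT, hj2⟩ := hJ.exists_order_four T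
    have hjz' : t * j * t⁻¹ = j := eq_of_map_eq T.isPGroup'
      (mul_mem (mul_mem htT hjT) ((T : Subgroup ↥(CI x)).inv_mem htT)) hjT (htriv j hjJ)
    rw [mul_inv_eq_iff_eq_mul] at hjz'
    have hjz : (j : G) * z = z * j := (congrArg Subtype.val hjz').symm
    have hjlay : (j : G) ∈ lay z := cover hzx (exists_two_pow_of_sq hx2) (exists_two_pow_of_sq hz2)
      hJ.comp htriv j.2 hjz (mem_map_of_mem qx hjJ)
      (two_pow_val (exists_two_pow T.isPGroup' hjT))
    have hjn : toCI hjz ∈ normalizer (K : Set ↥(CI z)) :=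
      pLayer_le_normalizer hK.comp ((mem_lay (h := mem_centralizer_singleton_iff.2 hjz)).1 hjlay)
    set c := yc * j * yc⁻¹ * j⁻¹ with hc
    have hcT : c ∈ (T : Subgroup ↥(CI x)) := mul_mem (mul_mem (mul_mem hyT hjT)
      ((T : Subgroup ↥(CI x)).inv_mem hyT)) ((T : Subgroup ↥(CI x)).inv_mem hjT)
    have hcK : toCI hyz * (toCI hjz * (toCI hyz)⁻¹ * (toCI hjz)⁻¹) ∈ K :=
      mul_mem hyK ((mem_normalizer_iff.1 hjn _).1 (inv_mem hyK))
    have hcval : ((toCI hyz * (toCI hjz * (toCI hyz)⁻¹ * (toCI hjz)⁻¹) : ↥(CI z)) : G) = (c : G) := by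
      simp [hc, hycdef, mul_assoc]
    have hj4 : j * j⁻¹ = 1 := mul_inv_cancel j
    have hc2 : c * c = 1 := by
      have e1 := hcomm j⁻¹ (inv_mem hjJ) ((T : Subgroup ↥(CI x)).inv_mem hjT) j hjJ hjT
      rw [hc]
      calc yc * j * yc⁻¹ * j⁻¹ * (yc * j * yc⁻¹ * j⁻¹)
          = yc * j * yc⁻¹ * (j⁻¹ * (yc * j * yc⁻¹)) * j⁻¹ := by group
        _ = yc * j * yc⁻¹ * (yc * j * yc⁻¹ * j⁻¹) * j⁻¹ := by rw [e1]
        _ = yc * (j * j) * yc⁻¹ * (j * j)⁻¹ := by group
        _ = 1 := by rw [hj2, hx'c yc, mul_inv_cancel_right, mul_inv_cancel]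
    have hc1 : c ≠ 1 := by
      intro e
      rw [hc, mul_inv_eq_one] at e
      rcases hJ.mem_two hJy hmove'.symm hjJ (by
        rw [← e]; exact mem_map_of_mem qx ⟨j, hjJ, rfl⟩) with e1 | e1
      · exact hJ.q_x_ne_one (by rw [← hj2, map_mul, e1, mul_one])
      · exact hJ.q_x_ne_one (by rw [← hj2, map_mul, e1]; exact hJ.q_x_sq)
    have hcz : (c : G) = z := by
      rw [← hcval]
      refine congrArg Subtype.val (hK.uniq _ hcK (orderOf_eq_prime (Subtype.ext ?_) fun e => hc1 ?_))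
      · show _ ^ 2 = (1 : G)
        rw [hcval, pow_two]
        exact congrArg Subtype.val hc2
      · refine Subtype.ext ?_
        rw [← hcval, e]; rfl
    have hct : t = c := Subtype.ext hcz.symm
    have hjc : (⟨qx j, mem_map_of_mem _ hjJ⟩ : ↥(J.map qx)) ∈ center ↥(J.map qx) := by
      rw [mem_center_iff]
      rintro ⟨_, v, hv, rfl⟩
      refine Subtype.ext ?_
      show qx v * qx j = qx j * qx v
      set v' := j * v * j⁻¹ with hv'
      have hv'J : v' ∈ J := mul_mem (mul_mem hjJ hv) (inv_mem hjJ)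
      have h1 : qx (yc * j * yc⁻¹) * qx v = qx v * qx (yc * j * yc⁻¹) :=
        (TwoComp.commute_of_ne hJ.comp hJy hmove'.symm hv ⟨j, hjJ, rfl⟩).symm
      have h2 := htriv v' hv'J
      rw [hct, hc, map_mul qx (_ * v'), map_mul qx _ v', map_inv, map_mul qx _ j⁻¹, hv',
        map_mul qx (j * v), map_mul qx j v, map_inv] at h2
      have h3 : qx (yc * j * yc⁻¹) * qx v * (qx (yc * j * yc⁻¹))⁻¹ = qx j * qx v * (qx j)⁻¹ :=
        Eq.trans (by group) h2
      rw [h1, mul_inv_cancel_right, eq_mul_inv_iff_mul_eq] at h3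
      exact h3
    rcases hJ.eq_of_mem_center hjc with e1 | e1 <;> simp only at e1
    · exact hJ.q_x_ne_one (by rw [← hj2, map_mul, e1, mul_one])
    · exact hJ.q_x_ne_one (by rw [← hj2, map_mul, e1]; exact hJ.q_x_sq)
  -- `z` acts non-trivially on `J`
  push Not at htriv
  obtain ⟨p, hpJ, g, hgJ, hpT, hp2, hpinv, hgz⟩ := hJ.exists_twist T htT ht2 htJ htriv
  have hyt : yc * t = t * yc := Subtype.ext hyz
  have hti : t⁻¹ = t := inv_eq_of_mul_eq_one_right ht2
  set p1 := yc * p * yc⁻¹ with hp1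
  set g1 := yc * g * yc⁻¹ with hg1
  have hp1T : p1 ∈ (T : Subgroup ↥(CI x)) :=
    mul_mem (mul_mem hyT hpT) ((T : Subgroup ↥(CI x)).inv_mem hyT)
  have hpp1 : p * p1 = p1 * p := hcomm p hpJ hpT p hpJ hpT
  have hinv1 : t * p1 * t⁻¹ = p1⁻¹ := by
    calc t * p1 * t⁻¹ = (t * yc) * p * (t * yc)⁻¹ := by rw [hp1]; group
      _ = (yc * t) * p * (yc * t)⁻¹ := by rw [hyt]
      _ = yc * (t * p * t⁻¹) * yc⁻¹ := by group
      _ = p1⁻¹ := by rw [hpinv, hp1]; group
  set A := p * p1 * t with hA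
  have hAT : A ∈ (T : Subgroup ↥(CI x)) := mul_mem (mul_mem hpT hp1T) htT
  have htA : t * (p * p1) * t⁻¹ = (p * p1)⁻¹ := by
    rw [show t * (p * p1) * t⁻¹ = t * p * t⁻¹ * (t * p1 * t⁻¹) by group, hpinv, hinv1,
      ← mul_inv_rev, ← hpp1]
  have hA2 : A * A = 1 := by
    rw [hA, show p * p1 * t * (p * p1 * t) = p * p1 * (t * (p * p1) * t⁻¹) * (t * t) by group,
      htA, ht2, mul_one, mul_inv_cancel]
  have hp1sq : p1 * p1 = x' := by
    rw [hp1, show yc * p * yc⁻¹ * (yc * p * yc⁻¹) = yc * (p * p) * yc⁻¹ by group, hp2, hx'c,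
      mul_inv_cancel_right]
  have hAt : A * t = t * A := by
    have h1 : (p * p1) * (p * p1) = 1 := by
      rw [show p * p1 * (p * p1) = p * (p1 * p) * p1 by group, ← hpp1,
        show p * (p * p1) * p1 = (p * p) * (p1 * p1) by group, hp2, hp1sq]
      exact hJ.x_sq
    symm
    rw [hA, show t * (p * p1 * t) = t * (p * p1) * t⁻¹ * (t * t) by group, htA, ht2, mul_one,
      mul_assoc (p * p1), ht2, mul_one]
    exact inv_eq_of_mul_eq_one_right h1
  have hA1 : A ≠ 1 := by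
    intro e
    rw [hA, mul_eq_one_iff_eq_inv, hti] at e
    have e1 : t * t * t⁻¹ = t := by group
    obtain ⟨v, hv, hvne⟩ := htriv
    -- `t = p p1` would centralise `p`
    have e2 : t * p * t⁻¹ = p := by
      rw [← e, show p * p1 * p * (p * p1)⁻¹ = p * (p1 * p) * p1⁻¹ * p⁻¹ by group, ← hpp1]
      group
    rw [hpinv] at e2
    have e3 : p * p = 1 := by
      conv_lhs => arg 1; rw [← e2]
      exact inv_mul_cancel p
    exact hJ.x_ne_one (by rw [← hp2]; exact e3)
  -- an exact conjugate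
  have hq1 : qx (g1 * t * g1⁻¹) = qx (p1 * t) := by
    have e : qx (yc * (g * t * g⁻¹) * yc⁻¹) = qx (yc * (p * t) * yc⁻¹) := by
      simp only [map_mul] at hgz ⊢; rw [hgz]
    rw [show g1 * t * g1⁻¹ = yc * (g * (yc⁻¹ * t * yc) * g⁻¹) * yc⁻¹ by rw [hg1]; group,
      mul_assoc yc⁻¹ t, ← hyt, inv_mul_cancel_left, e,
      show yc * (p * t) * yc⁻¹ = p1 * (yc * t * yc⁻¹) by rw [hp1]; group, hyt, mul_inv_cancel_right]
  have hgp1 : qx g * qx p1 = qx p1 * qx g :=
    TwoComp.commute_of_ne hJ.comp hJy hmove'.symm hgJ ⟨p, hpJ, rfl⟩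
  have hqG : qx (g * g1 * t * (g * g1)⁻¹) = qx A := by
    calc qx (g * g1 * t * (g * g1)⁻¹) = qx g * qx (g1 * t * g1⁻¹) * (qx g)⁻¹ := by
          simp only [map_mul, map_inv]; group
      _ = qx g * qx p1 * qx t * (qx g)⁻¹ := by rw [hq1, map_mul]; group
      _ = qx p1 * (qx g * qx t * (qx g)⁻¹) := by rw [hgp1]; group
      _ = qx p1 * qx (g * t * g⁻¹) := by simp only [map_mul, map_inv]
      _ = qx A := by rw [hgz, hA, hpp1]; simp only [map_mul, mul_assoc]
  set B := g * g1 * t * (g * g1)⁻¹ with hB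
  have hBinv : orderOf B = 2 := by
    have ht1 : t ≠ 1 := fun e => hK.x_ne_one (Subtype.ext (congrArg Subtype.val e : z = 1))
    refine orderOf_eq_prime ?_ fun e => ht1 ?_
    · rw [pow_two, hB, show g * g1 * t * (g * g1)⁻¹ * (g * g1 * t * (g * g1)⁻¹) =
        g * g1 * (t * t) * (g * g1)⁻¹ by group, ht2, mul_one, mul_inv_cancel]
    · rw [hB, mul_inv_eq_one, mul_eq_left] at e
      exact e
  have hodd : Odd (orderOf (B * A)) := by
    refine Odd.of_dvd_nat (Nat.coprime_two_right.1 (coprime_card_pPrimeCore 2 ↥(CI x)))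
      (Subgroup.orderOf_dvd_natCard _ ((QuotientGroup.eq_one_iff _).1 ?_))
    show qx (B * A) = 1
    rw [map_mul, hqG, ← map_mul, hA2, map_one]
  obtain ⟨u, hu, hue⟩ := CfsgLib.Invol.exists_conj_of_odd hBinv
    (orderOf_eq_prime (by rw [pow_two, hA2]) hA1) hodd
  have hu1 : qx u = 1 := by
    obtain ⟨i, rfl⟩ := mem_zpowers_iff.1 hu
    rw [map_zpow, map_mul, hqG, ← map_mul, hA2, map_one, one_zpow]
  set G1 := u * (g * g1) with hG1
  have hG1A : G1 * t * G1⁻¹ = A := by rw [← hue, hB, hG1]; group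
  -- conjugating `y` by `A`
  set p2 := yc * p1 * yc⁻¹ with hp2'
  have hp2J : p2 ∈ J := by
    rw [hp2', hp1, show yc * (yc * p * yc⁻¹) * yc⁻¹ = yc * yc * p * (yc * yc)⁻¹ by group]
    exact (mem_normalizer_iff.1 hsq p).1 hpJ
  have hp2T : p2 ∈ (T : Subgroup ↥(CI x)) :=
    mul_mem (mul_mem hyT hp1T) ((T : Subgroup ↥(CI x)).inv_mem hyT)
  set e := p2 * p⁻¹ with he
  have heJ : e ∈ J := mul_mem hp2J (inv_mem hpJ)
  have heT : e ∈ (T : Subgroup ↥(CI x)) := mul_mem hp2T ((T : Subgroup ↥(CI x)).inv_mem hpT)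
  have hyA : yc * A * yc⁻¹ * A⁻¹ = e := by
    have h1 : p2 * p1 = p1 * p2 := hcomm p2 hp2J hp2T p hpJ hpT
    calc yc * A * yc⁻¹ * A⁻¹ = p1 * p2 * (yc * t * yc⁻¹) * A⁻¹ := by rw [hA, hp2', hp1]; group
      _ = p1 * p2 * t * A⁻¹ := by rw [hyt, mul_inv_cancel_right]
      _ = p2 * p1 * p1⁻¹ * p⁻¹ := by rw [hA, ← h1]; group
      _ = e := by rw [he]; group
  have hez : (e : G) * z = z * e := by
    have h1 : e * t = t * e := by
      rw [← hyA]
      have c1 : Commute t yc := hyt.symm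
      have c2 : Commute t A := hAt.symm
      exact (((c1.mul_right c2).mul_right c1.inv_right).mul_right c2.inv_right).symm.eq
    exact congrArg Subtype.val h1
  have hAz : (A : G) * z = z * A := congrArg Subtype.val hAt
  set Ad := toCI hAz with hAd
  set yd := toCI hyz with hyd
  have hAyA : A * yc * A⁻¹ = e⁻¹ * yc := by
    rw [← hyA]; group
  have hAyd : Ad * yd * Ad⁻¹ = (toCI hez)⁻¹ * yd := Subtype.ext (congrArg Subtype.val hAyA :)
  -- `e ∈ {1, x}`
  have he1 : Ad ∈ normalizer (K : Set ↥(CI z)) → e = 1 := by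
    intro hn'
    have h1 : (toCI hez)⁻¹ ∈ K := by
      have := mul_mem (hAyd ▸ (mem_normalizer_iff.1 hn' yd).1 hyK) (inv_mem hyK)
      rwa [mul_inv_cancel_right] at this
    exact hJK e heJ heT hez ((inv_mem_iff).1 h1)
  have he2 : Ad ∉ normalizer (K : Set ↥(CI z)) → e = x' := by
    intro hn'
    have hKA := isPComponent_map_conj (p := 2) hK.comp Ad
    have hneK : K.map (MulAut.conj Ad).toMonoidHom ≠ K := fun h' => hn' (map_conj_eq_iff.1 h')
    have hR : IsPGroup 2 ↥(((T : Subgroup ↥(CI x)).map (CI x).subtype).subgroupOf (CI z)) :=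
      (T.isPGroup'.map _).comap_of_injective _ (CI z).subtype_injective
    have hydR : yd ∈ ((T : Subgroup ↥(CI x)).map (CI x).subtype).subgroupOf (CI z) :=
      mem_map_of_mem (CI x).subtype hyT
    have hAdR : Ad ∈ ((T : Subgroup ↥(CI x)).map (CI x).subtype).subgroupOf (CI z) :=
      mem_map_of_mem (CI x).subtype hAT
    set R := ((T : Subgroup ↥(CI x)).map (CI x).subtype).subgroupOf (CI z)
    have hAR : Ad * yd * Ad⁻¹ ∈ R := mul_mem (mul_mem hAdR hydR) (R.inv_mem hAdR)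
    have hc : yd * (Ad * yd * Ad⁻¹) = Ad * yd * Ad⁻¹ * yd := by
      refine eq_of_map_eq hR (mul_mem hydR hAR) (mul_mem hAR hydR) ?_
      rw [map_mul qz yd, map_mul qz _ yd]
      exact TwoComp.commute_of_ne hK.comp hKA hneK.symm hyK ⟨yd, hyK, rfl⟩
    have hye : yc * e⁻¹ = e⁻¹ * yc := by
      have h1 : yc * (A * yc * A⁻¹) = A * yc * A⁻¹ * yc :=
        Subtype.ext (congrArg Subtype.val hc :)
      rw [hAyA, ← mul_assoc] at h1
      exact mul_right_cancel h1
    have hey : yc * e * yc⁻¹ = e := by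
      have h2 : yc * e⁻¹ * yc⁻¹ = e⁻¹ := by rw [hye, mul_inv_cancel_right]
      calc yc * e * yc⁻¹ = (yc * e⁻¹ * yc⁻¹)⁻¹ := by group
        _ = e := by rw [h2, inv_inv]
    have hyne : e ≠ 1 := by
      intro e0
      have h1 : Ad * yd * Ad⁻¹ = yd := by
        rw [hAyd]
        exact Subtype.ext (by
          show (e : G)⁻¹ * y = y
          rw [e0, OneMemClass.coe_one, inv_one, one_mul])
      have hy4 : qz yd * qz yd ≠ 1 := fun h4 => by
        have h5 : yd * yd = 1 := eq_one_of_map_eq_one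
          (exists_two_pow hR (mul_mem hydR hydR)) (by rw [map_mul, h4])
        have h6 : y * y = 1 := congrArg Subtype.val h5
        have : orderOf y ∣ 2 := orderOf_dvd_of_pow_eq_one (by rw [pow_two, h6])
        rw [hn] at this
        have := Nat.le_of_dvd two_pos this
        have : 2 ^ 2 ≤ 2 ^ (n + 2) := Nat.pow_le_pow_right two_pos (by omega)
        omega
      rcases hK.mem_two hKA hneK.symm hyK (by
        rw [← h1]; exact mem_map_of_mem qz ⟨yd, hyK, rfl⟩) with e1 | e1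
      · exact hy4 (by rw [e1, mul_one])
      · exact hy4 (by rw [e1]; exact hK.q_x_sq)
    rcases hJ.mem_two hJy hmove'.symm heJ (by
      rw [← hey]; exact mem_map_of_mem qx ⟨e, heJ, rfl⟩) with e1 | e1
    · exact absurd (eq_one_of_map_eq_one (exists_two_pow T.isPGroup' heT) e1) hyne
    · refine eq_of_map_eq T.isPGroup' heT ?_ e1
      rw [← hp2]; exact mul_mem hpT hpT
  have hes : ∀ c : ↥(CI x), e * c = c * e := by
    intro c
    by_cases hn' : Ad ∈ normalizer (K : Set ↥(CI z))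
    · rw [he1 hn', one_mul, mul_one]
    · rw [he2 hn', hx'c]
  have hsp : ∀ k : ℕ, (yc * yc) ^ k * p * ((yc * yc) ^ k)⁻¹ = e ^ k * p := by
    intro k
    induction k with
    | zero => simp
    | succ m ih =>
      calc (yc * yc) ^ (m + 1) * p * ((yc * yc) ^ (m + 1))⁻¹
          = yc * yc * ((yc * yc) ^ m * p * ((yc * yc) ^ m)⁻¹) * (yc * yc)⁻¹ := by
            rw [pow_succ']; simp only [mul_inv_rev, mul_assoc]
        _ = yc * yc * (e ^ m * p) * (yc * yc)⁻¹ := by rw [ih]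
        _ = e ^ m * (yc * yc * p * (yc * yc)⁻¹) := by
            rw [← mul_assoc, ((Commute.pow_left (hes (yc * yc)) m).symm).eq]; group
        _ = e ^ m * (e * p) := by rw [he, hp2', hp1]; group
        _ = e ^ (m + 1) * p := by rw [pow_succ]; exact (mul_assoc _ _ _).symm
  have hpinv' : p⁻¹ = x' * p := by
    rw [← hx'c p]
    exact inv_eq_of_mul_eq_one_right (by rw [← mul_assoc, hp2, hJ.x_sq])
  have hee : e ^ 2 ^ n = x' := by
    have h1 := hsp (2 ^ n)
    rw [← htyc, hpinv, hpinv'] at h1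
    exact (mul_right_cancel h1).symm
  have hn0 : Ad ∉ normalizer (K : Set ↥(CI z)) := fun hn' => by
    rw [he1 hn', one_pow] at hee
    exact hJ.x_ne_one hee.symm
  have hex := he2 hn0
  have hn' : n = 0 := by
    by_contra hn'
    rw [hex, show 2 ^ n = 2 * 2 ^ (n - 1) by rw [← pow_succ']; congr 1; omega, pow_mul, pow_two,
      hJ.x_sq, one_pow] at hee
    exact hJ.x_ne_one hee.symm
  have hyy : y * y = z := by rw [hzy, hn', pow_zero, pow_one]
  -- the diagonal of `K` under `A`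
  have hAd2 : Ad * Ad = 1 := Subtype.ext (congrArg Subtype.val hA2 :)
  obtain ⟨Γ, hΓq, hΓc, hΓs, -, hΓmem⟩ :=
    hK.exists_diag hAd2 fun h' => hn0 (map_conj_eq_iff.1 h')
  have hxA : (A : G) * x = x * A := comm_of_mem A.2
  have hval : ((yd * (Ad * yd * Ad⁻¹) : ↥(CI z)) : G) = x * z := by
    rw [hAyd]
    show y * ((e : G)⁻¹ * y) = x * z
    rw [hex]
    show y * (x⁻¹ * y) = x * z
    rw [hxi, ← mul_assoc, hyx, mul_assoc, hyy]
  have hzxA : (x * z) * (A : G) = (A : G) * (x * z) :=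
    ((show Commute x (A : G) from hxA.symm).mul_left
      (show Commute z (A : G) from hAz.symm)).eq
  have hxzlay : x * z ∈ lay (A : G) := lift_cross hAz (exists_two_pow_of_sq hz2)
    (exists_two_pow_of_sq (congrArg Subtype.val hA2)) hΓq hΓc hΓs
    (w := x * z) (hwz := mem_centralizer_singleton_iff.2 (by rw [← mul_assoc, hzx]))
    hzxA
    (by convert hΓmem yd hyK using 2; exact Subtype.ext hval.symm)
    (exists_two_pow_of_sq (by
      rw [show x * z * (x * z) = x * (z * x) * z by group, hzx,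
        show x * (x * z) * z = (x * x) * (z * z) by group, hx2, hz2, one_mul]))
  have hG1x : (G1 : G) * x = x * G1 := comm_of_mem G1.2
  have h1 := conj_lay ((G1 : G))⁻¹ (a := (A : G)) (b := z) (by
    rw [← show ((G1 * t * G1⁻¹ : ↥(CI x)) : G) = (A : G) from congrArg Subtype.val hG1A]
    show (G1 : G)⁻¹ * ((G1 : G) * z * (G1 : G)⁻¹) * (G1 : G)⁻¹⁻¹ = z
    group) hxzlay
  set a' := (G1 : G)⁻¹ * z * G1 with ha'
  have h2 : x * a' ∈ lay z := by
    convert h1 using 1
    rw [ha', show (G1 : G)⁻¹ * (x * z) * (G1 : G)⁻¹⁻¹ =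
      ((G1 : G)⁻¹ * x * G1) * ((G1 : G)⁻¹ * z * G1) by group,
      mul_assoc (G1 : G)⁻¹ x, ← hG1x, inv_mul_cancel_left]
  have hyl : toCI hyz ∈ Cfsg.pLayer 2 ↥(CI z) :=
    (le_sSup hK.comp : K ≤ Cfsg.pLayer 2 ↥(CI z)) hyK
  have hxl : x ∈ lay z := by
    have := pLayer_normal 2 ↥(CI z)
    have h3 : Ad * yd * Ad⁻¹ * yd⁻¹ ∈ Cfsg.pLayer 2 ↥(CI z) :=
      mul_mem (this.conj_mem _ hyl Ad) (inv_mem hyl)
    rw [hAyd, mul_inv_cancel_right] at h3
    refine ⟨_, h3, ?_⟩
    show (e : G)⁻¹ = x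
    rw [hex]; exact hxi
  have ha'l : a' ∈ lay z := by
    have := mul_mem hxl h2
    rwa [← mul_assoc, hx2, one_mul] at this
  have ha'z : a' * z = z * a' := comm_of_mem (lay_le z ha'l)
  have hn'' : toCI ha'z ∈ normalizer (K : Set ↥(CI z)) :=
    pLayer_le_normalizer hK.comp ((mem_lay (h := mem_centralizer_singleton_iff.2 ha'z)).1 ha'l)
  have hcK : yd * (toCI ha'z * yd⁻¹ * (toCI ha'z)⁻¹) ∈ K :=
    mul_mem hyK ((mem_normalizer_iff.1 hn'' _).1 (inv_mem hyK))
  set a'' : ↥(CI x) := G1⁻¹ * t * G1 with ha''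
  set c := yc * a'' * yc⁻¹ * a''⁻¹ with hc
  have hcval : ((yd * (toCI ha'z * yd⁻¹ * (toCI ha'z)⁻¹) : ↥(CI z)) : G) = (c : G) := by
    simp [hc, ha'', ha', hyd, hycdef, htdef, mul_assoc]
  -- modulo the core the commutator is `x`
  have hqc : qx c = qx x' := by
    set r := g⁻¹ * p⁻¹ * g with hr
    have hr2 : r * r = x' := by
      rw [hr, show g⁻¹ * p⁻¹ * g * (g⁻¹ * p⁻¹ * g) = g⁻¹ * (p * p)⁻¹ * g by group, hp2, hJ.x_inv,
        hx'c, mul_assoc, inv_mul_cancel, mul_one]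
    have hrz : qx (g⁻¹ * t * g) = qx (r * t) := by
      have e1 : qx t * (qx g)⁻¹ = (qx g)⁻¹ * qx p * qx t := by
        simp only [map_mul, map_inv] at hgz
        calc qx t * (qx g)⁻¹ = (qx g)⁻¹ * (qx g * qx t * (qx g)⁻¹) := by group
          _ = _ := by rw [hgz]; group
      have e2 : qx t * qx g = (qx p)⁻¹ * qx g * qx t := by
        calc qx t * qx g = (qx p)⁻¹ * qx g * ((qx g)⁻¹ * qx p * qx t) * qx g := by group
          _ = (qx p)⁻¹ * qx g * (qx t * (qx g)⁻¹) * qx g := by rw [e1]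
          _ = _ := by group
      simp only [map_mul, map_inv, hr]
      calc (qx g)⁻¹ * qx t * qx g = (qx g)⁻¹ * (qx t * qx g) := by group
        _ = _ := by rw [e2]; group
    have hrt : qx (t * r * t⁻¹) = qx r⁻¹ := by
      have h3 : qx (r * t) * qx (r * t) = 1 := by
        rw [← hrz, ← map_mul, show g⁻¹ * t * g * (g⁻¹ * t * g) = g⁻¹ * (t * t) * g by group, ht2,
          mul_one, inv_mul_cancel, map_one]
      simp only [map_mul, map_inv] at h3 ⊢
      calc qx t * qx r * (qx t)⁻¹ = (qx r)⁻¹ * (qx r * qx t * (qx r * qx t)) * (qx t * qx t)⁻¹ := by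
            group
        _ = _ := by rw [h3, ← map_mul, ht2, map_one, inv_one, mul_one, mul_one]
    have hrJ : r ∈ J := mul_mem (mul_mem (inv_mem hgJ) (inv_mem hpJ)) hgJ
    set r1 := yc * r * yc⁻¹ with hr1
    have hr1m : r1 ∈ J.map (MulAut.conj yc).toMonoidHom := ⟨r, hrJ, rfl⟩
    have hg1m : g1 ∈ J.map (MulAut.conj yc).toMonoidHom := ⟨g, hgJ, rfl⟩
    have hcr : qx r * qx r1 = qx r1 * qx r :=
      TwoComp.commute_of_ne hJ.comp hJy hmove'.symm hrJ hr1m
    have hcg : qx r * qx g1 = qx g1 * qx r :=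
      TwoComp.commute_of_ne hJ.comp hJy hmove'.symm hrJ hg1m
    have hq1' : qx (g1⁻¹ * t * g1) = qx (r1 * t) := by
      have e1 : qx (yc * (g⁻¹ * t * g) * yc⁻¹) = qx (yc * (r * t) * yc⁻¹) := by
        simp only [map_mul] at hrz ⊢; rw [hrz]
      rw [show g1⁻¹ * t * g1 = yc * (g⁻¹ * (yc⁻¹ * t * yc) * g) * yc⁻¹ by rw [hg1]; group,
        mul_assoc yc⁻¹ t, ← hyt, inv_mul_cancel_left, e1,
        show yc * (r * t) * yc⁻¹ = r1 * (yc * t * yc⁻¹) by rw [hr1]; group, hyt, mul_inv_cancel_right]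
    have ha''q : qx a'' = qx r * qx r1 * qx t := by
      calc qx a'' = (qx g1)⁻¹ * qx (g⁻¹ * t * g) * qx g1 := by
            rw [ha'', hG1]; simp only [map_mul, map_inv, hu1]; group
        _ = (qx g1)⁻¹ * qx r * qx t * qx g1 := by rw [hrz, map_mul qx r t]; group
        _ = qx r * ((qx g1)⁻¹ * qx t * qx g1) := by
            rw [show (qx g1)⁻¹ * qx r = qx r * (qx g1)⁻¹ from
              ((show Commute (qx r) (qx g1) from hcg).inv_right).eq.symm]
            group
        _ = qx r * qx (g1⁻¹ * t * g1) := by simp only [map_mul, map_inv]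
        _ = qx r * qx r1 * qx t := by rw [hq1', map_mul qx r1 t]; exact (mul_assoc _ _ _).symm
    have hr2' : yc * r1 * yc⁻¹ = t * r * t⁻¹ := by
      have hty : t = yc * yc := Subtype.ext hyy.symm
      calc yc * r1 * yc⁻¹ = (yc * yc) * r * (yc * yc)⁻¹ := by rw [hr1]; group
        _ = _ := by rw [hty]
    calc qx c = qx yc * (qx r * qx r1 * qx t) * (qx yc)⁻¹ * (qx r * qx r1 * qx t)⁻¹ := by
          rw [hc]; simp only [map_mul, map_inv, ha''q]
      _ = qx (yc * r * yc⁻¹) * qx (yc * r1 * yc⁻¹) * qx (yc * t * yc⁻¹) *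
            (qx r * qx r1 * qx t)⁻¹ := by simp only [map_mul, map_inv]; group
      _ = qx r1 * qx r⁻¹ * qx t * (qx r * qx r1 * qx t)⁻¹ := by
          rw [← hr1, hr2', hrt, hyt, mul_inv_cancel_right]
      _ = qx r1 * (qx r)⁻¹ * (qx r1)⁻¹ * (qx r)⁻¹ := by rw [map_inv]; group
      _ = (qx r * qx r)⁻¹ := by
          rw [show qx r1 * (qx r)⁻¹ * (qx r1)⁻¹ = (qx r)⁻¹ by
            rw [((show Commute (qx r1) (qx r) from hcr.symm).inv_right).eq, mul_inv_cancel_right],
            mul_inv_rev]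
      _ = qx x' := by rw [← map_mul, hr2, ← map_inv, hJ.x_inv]
  -- hence a power of it is `x`, which then lies in `K`
  set m := orderOf (x' * c) with hm
  have hmodd : Odd m := by
    refine Odd.of_dvd_nat (Nat.coprime_two_right.1 (coprime_card_pPrimeCore 2 ↥(CI x)))
      (Subgroup.orderOf_dvd_natCard _ ((QuotientGroup.eq_one_iff _).1 ?_))
    show qx (x' * c) = 1
    rw [map_mul, hqc, hJ.q_x_sq]
  have hcm : c ^ m = x' := by
    have h3 := pow_orderOf_eq_one (x' * c)
    rw [← hm, (show Commute x' c from (hx'c c).symm).mul_pow] at h3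
    obtain ⟨i, hi⟩ := hmodd
    rw [show x' ^ m = x' by rw [hi, pow_succ, pow_mul, pow_two, hJ.x_sq, one_pow, one_mul]] at h3
    rw [← inv_eq_of_mul_eq_one_right h3]
    exact hJ.x_inv
  have hxK' : ((yd * (toCI ha'z * yd⁻¹ * (toCI ha'z)⁻¹)) ^ m : ↥(CI z)) ∈ K := pow_mem hcK m
  have hval' : (((yd * (toCI ha'z * yd⁻¹ * (toCI ha'z)⁻¹)) ^ m : ↥(CI z)) : G) = x := by
    rw [SubgroupClass.coe_pow, hcval, ← SubgroupClass.coe_pow, hcm]
  have h4 := hK.uniq _ hxK' (by
    rw [← Subgroup.orderOf_coe, hval']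
    exact (Subgroup.orderOf_coe (toCI (rfl : x * x = x * x))).trans hJ.invol)
  exact hne (hval'.symm.trans (congrArg Subtype.val h4))

end

end CfsgLib.Comp.Intrinsic
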