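import Cfsg.Agent.Lib.Comp.Intrinsic.Basic
import Cfsg.Agent.Lib.Invol.BrauerSuzuki
import Cfsg.Agent.Lib.Invol.Isolated
import Cfsg.Agent.Lib.Invol.ZStar

/-!
An involution acting non-trivially on a component with one involution has a conjugate of the
shape `p z`, with `p` of order four inverted by `z` (from the Z*-theorem).
-/

set_option autoImplicit false
set_option linter.unusedSectionVars false

open Subgroup
open scoped commutatorElement

namespace CfsgLib.Comp.Intrinsic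

universe u

variable {C : Type u} [Group C] [Finite C] {J : Subgroup C} {x : C}

local notation "𝔮" => toModCore 2 C

namespace TwoComp

variable (h : TwoComp J x)
include h

theorem zpowers_q_normal : (zpowers (𝔮 x)).Normal := by
  refine ⟨fun a ha g => ?_⟩
  obtain ⟨i, rfl⟩ := mem_zpowers_iff.1 ha
  rw [((show Commute g (𝔮 x) from h.q_x_central g).zpow_right i).eq, mul_inv_cancel_right]
  exact zpow_mem (mem_zpowers _) i

theorem zpowers_q_cases {a : C ⧸ Cfsg.pPrimeCore 2 C} (ha : a ∈ zpowers (𝔮 x)) :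
    a = 1 ∨ a = 𝔮 x := by
  obtain ⟨i, rfl⟩ := mem_zpowers_iff.1 ha
  rcases Int.even_or_odd i with ⟨k, rfl⟩ | ⟨k, rfl⟩
  · left; rw [← two_mul, zpow_mul, zpow_two, h.q_x_sq, one_zpow]
  · right; rw [zpow_add_one, zpow_mul, zpow_two, h.q_x_sq, one_zpow, one_mul]

/-- The twist lemma. -/
theorem exists_twist (T : Sylow 2 C) {z : C} (hzT : z ∈ (T : Subgroup C)) (hz : z * z = 1)
    (hzJ : z ∈ normalizer (J : Set C))
    (hne : ∃ j ∈ J, 𝔮 (z * j * z⁻¹) ≠ 𝔮 j) :
    ∃ p ∈ J, ∃ g ∈ J, p ∈ (T : Subgroup C) ∧ p * p = x ∧ z * p * z⁻¹ = p⁻¹ ∧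
      𝔮 (g * z * g⁻¹) = 𝔮 (p * z) := by
  classical
  have : (zpowers (𝔮 x)).Normal := h.zpowers_q_normal
  set r : C →* (C ⧸ Cfsg.pPrimeCore 2 C) ⧸ zpowers (𝔮 x) :=
    (QuotientGroup.mk' (zpowers (𝔮 x))).comp 𝔮 with hr
  have req : ∀ a b : C, r a = r b → 𝔮 b = 𝔮 a ∨ 𝔮 b = 𝔮 (a * x) := fun a b e => by
    rcases h.zpowers_q_cases (QuotientGroup.eq.1 e) with e1 | e1
    · exact Or.inl (inv_mul_eq_one.1 e1).symm
    · right; rw [map_mul, ← e1, mul_inv_cancel_left]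
  have rT : ∀ a ∈ (T : Subgroup C), ∀ b ∈ (T : Subgroup C), r a = r b → b = a ∨ b = a * x := by
    intro a ha b hb e
    have hxT : x ∈ (T : Subgroup C) := by
      obtain ⟨u, -, hu, rfl⟩ := h.exists_order_four T
      exact mul_mem hu hu
    rcases req a b e with e1 | e1
    · exact Or.inl (eq_of_map_eq T.isPGroup' hb ha e1)
    · exact Or.inr (eq_of_map_eq T.isPGroup' hb (mul_mem ha hxT) e1)
  obtain ⟨u, huJ, huT, hu⟩ := h.exists_order_four T
  have hxT : x ∈ (T : Subgroup C) := hu ▸ mul_mem huT huT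
  have hrx : r x = 1 := (QuotientGroup.eq_one_iff (𝔮 x)).2 (mem_zpowers _)
  -- the involution is outside the component
  have hσJ : r z ∉ J.map r := by
    rintro ⟨j, hj, e⟩
    have hjc : 𝔮 z ∈ J.map 𝔮 := by
      rcases req j z e with e1 | e1
      · exact e1 ▸ mem_map_of_mem _ hj
      · exact e1 ▸ mem_map_of_mem _ (mul_mem hj h.mem)
    obtain ⟨w, hw, ew⟩ := hjc
    obtain ⟨v, hv, hne⟩ := hne
    refine hne ?_
    have hc : 𝔮 z * 𝔮 v = 𝔮 v * 𝔮 z := by
      rcases h.sq_eq_one hw (by rw [ew, ← map_mul, hz, map_one]) with e1 | e1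
      · rw [← ew, e1, one_mul, mul_one]
      · rw [← ew, e1]; exact (h.q_x_central _).symm
    rw [map_mul, map_mul, map_inv, hc, mul_inv_cancel_right]
  set σ := r z with hσ
  have hσ1 : σ ≠ 1 := fun e => hσJ (e ▸ one_mem _)
  have hσ2 : σ * σ = 1 := by rw [hσ, ← map_mul, hz, map_one]
  have hσn : ∀ a ∈ J.map r, σ * a * σ⁻¹ ∈ J.map r := by
    rintro _ ⟨j, hj, rfl⟩
    exact ⟨z * j * z⁻¹, (mem_normalizer_iff.1 hzJ j).1 hj, by rw [map_mul, map_mul, map_inv]⟩
  -- the group `M` and its Sylow subgroup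
  set M := J.map r ⊔ zpowers σ with hM
  set R := (J ⊓ (T : Subgroup C)).map r ⊔ zpowers σ with hR
  have hRT : R ≤ (T : Subgroup C).map r := sup_le (map_mono inf_le_right)
    (zpowers_le.2 (mem_map_of_mem r hzT))
  have hRM : R ≤ M := sup_le_sup (map_mono inf_le_left) le_rfl
  have hzn : zpowers σ ≤ normalizer ((J.map r : Subgroup _) : Set _) :=
    zpowers_le.2 (mem_normalizer_fintype hσn)
  have hMdec : ∀ m ∈ M, ∃ j ∈ J, ∃ i : ℤ, m = r j * σ ^ i := by
    intro m hm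
    obtain ⟨a, ha, b, hb, rfl⟩ := exists_mul_of_mem_sup hzn hm
    obtain ⟨j, hj, rfl⟩ := ha
    obtain ⟨i, rfl⟩ := mem_zpowers_iff.1 hb
    exact ⟨j, hj, i, rfl⟩
  have hconj : ∀ m ∈ M, ∃ g ∈ J, m * σ * m⁻¹ = r (g * z * g⁻¹) := by
    intro m hm
    obtain ⟨j, hj, i, rfl⟩ := hMdec m hm
    refine ⟨j, hj, ?_⟩
    rw [show r j * σ ^ i * σ * (r j * σ ^ i)⁻¹ = r j * σ * (r j)⁻¹ by group,
      map_mul, map_mul, map_inv]
  -- some conjugate of `σ` lies in `R` and differs from it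
  have key : ∃ m ∈ M, m * σ * m⁻¹ ∈ R ∧ m * σ * m⁻¹ ≠ σ := by
    by_contra hcon
    push Not at hcon
    have hRp : IsPGroup 2 ↥R := (T.isPGroup'.map r).to_le hRT
    obtain ⟨P, hP⟩ := (hRp.of_equiv (subgroupOfEquivOfLe hRM).symm).exists_le_sylow
    have hJM : J.map r ≤ M := le_sup_left
    have hsyl := CfsgLib.Amalgam.isSylIn_map r (h.sylow_inf T)
    have hPR : ∀ a : M, a ∈ (P : Subgroup M) → (a : (C ⧸ Cfsg.pPrimeCore 2 C) ⧸ zpowers (𝔮 x)) ∈ R := by
      intro a ha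
      obtain ⟨j, hj, i, e⟩ := hMdec a a.2
      have hsz : (⟨σ, mem_sup_right (mem_zpowers σ)⟩ : M) ∈ (P : Subgroup M) :=
        hP (show σ ∈ R from mem_sup_right (mem_zpowers σ))
      have hjP : (⟨r j, hJM (mem_map_of_mem r hj)⟩ : M) ∈ (P : Subgroup M) := by
        have e2 : (⟨r j, hJM (mem_map_of_mem r hj)⟩ : M) =
            a * (⟨σ, mem_sup_right (mem_zpowers σ)⟩ : M) ^ (-i) := Subtype.ext (by
          rw [Subgroup.coe_mul, Subgroup.coe_zpow, e]; group)
        rw [e2]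
        exact mul_mem ha (zpow_mem hsz _)
      have hQ : (J ⊓ (T : Subgroup C)).map r =
          ((P : Subgroup M).map M.subtype) ⊓ J.map r := by
        refine (hsyl.eq_of_le ?_ inf_le_right ((P.isPGroup'.map _).to_le inf_le_left)).symm
        refine le_inf (fun b hb => ⟨⟨b, hRM (mem_sup_left hb)⟩, hP (mem_sup_left hb), rfl⟩)
          (map_mono inf_le_left)
      rw [e]
      refine mul_mem (mem_sup_left ?_) (mem_sup_right (zpow_mem (mem_zpowers σ) i))
      rw [hQ]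
      exact ⟨⟨_, hjP, rfl⟩, mem_map_of_mem r hj⟩
    let σM : M := ⟨σ, mem_sup_right (mem_zpowers σ)⟩
    have hσM : orderOf σM = 2 := by
      refine orderOf_eq_prime (Subtype.ext (show σ ^ 2 = 1 by rw [pow_two, hσ2])) fun e => hσ1 ?_
      exact congrArg Subtype.val e
    have hiso := CfsgLib.Invol.isolated_of_sylow P hσM (hP (mem_sup_right (mem_zpowers σ)))
      fun g hg => Subtype.ext (hcon g g.2 (hPR _ hg))
    -- the commutators of `σ` with `J` lie in the odd core, hence are trivial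
    have hodd := CfsgLib.Invol.odd_card_oddCore M
    set N := (Cfsg.oddCore M).map M.subtype ⊓ J.map r with hN
    have hNn : (Cfsg.oddCore M).Normal := Cfsg.pPrimeCore_normal 2 M
    have hNodd : Odd (Nat.card N) := Odd.of_dvd_nat hodd
      ((card_dvd_of_le inf_le_left).trans (card_map_dvd _ _))
    let f : ↥(J.map 𝔮) →* (C ⧸ Cfsg.pPrimeCore 2 C) ⧸ zpowers (𝔮 x) :=
      (QuotientGroup.mk' (zpowers (𝔮 x))).comp (J.map 𝔮).subtype
    have hfr : ∀ j, ∀ hj : j ∈ J, f ⟨𝔮 j, mem_map_of_mem _ hj⟩ = r j := fun _ _ => rfl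
    have hKn : (N.comap f).Normal := by
      refine ⟨fun a ha b => ?_⟩
      obtain ⟨_, j, hj, rfl⟩ := b
      rw [mem_comap, map_mul, map_mul, map_inv, hfr j hj]
      rw [mem_comap] at ha
      obtain ⟨⟨m, hm, em⟩, hmJ⟩ := ha
      refine ⟨⟨⟨r j, hJM (mem_map_of_mem r hj)⟩ * m * ⟨r j, hJM (mem_map_of_mem r hj)⟩⁻¹,
        hNn.conj_mem _ hm _, ?_⟩, ?_⟩
      · rw [map_mul, map_mul, map_inv, em]; rfl
      · exact mul_mem (mul_mem (mem_map_of_mem r hj) hmJ) ((J.map r).inv_mem (mem_map_of_mem r hj))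
    rcases normal_eq_top_or_le_center h.quasi (N.comap f) with e | e
    · -- the odd core cannot contain the image of `u`
      have hu1 : r u ∈ N := by
        have := (e.symm ▸ mem_top (⟨𝔮 u, mem_map_of_mem _ huJ⟩ : ↥(J.map 𝔮)) :
          (⟨𝔮 u, mem_map_of_mem _ huJ⟩ : ↥(J.map 𝔮)) ∈ N.comap f)
        exact this
      have hru : r u * r u = 1 := by rw [← map_mul, hu, hrx]
      have h1 : r u = 1 := orderOf_eq_one_iff.1 (Nat.eq_one_of_dvd_coprimes
        (Nat.coprime_two_left.2 hNodd) (orderOf_dvd_of_pow_eq_one (by rw [pow_two, hru]))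
        (Subgroup.orderOf_dvd_natCard N hu1))
      rcases rT 1 (one_mem _) u huT (by rw [map_one, h1]) with e1 | e1
      · exact h.x_ne_one (by rw [← hu, e1, mul_one])
      · rw [one_mul] at e1
        exact h.x_ne_one (by rw [← hu, e1, h.x_sq])
    · obtain ⟨v, hv, hne⟩ := hne
      refine hne ?_
      have hjn : ∀ a : ↥(J.map 𝔮), 𝔮 z * a * (𝔮 z)⁻¹ ∈ J.map 𝔮 := by
        rintro ⟨_, j, hj, rfl⟩
        exact ⟨z * j * z⁻¹, (mem_normalizer_iff.1 hzJ j).1 hj, by simp⟩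
      let α : ↥(J.map 𝔮) ≃* ↥(J.map 𝔮) :=
        { toFun := fun a => ⟨𝔮 z * a * (𝔮 z)⁻¹, hjn a⟩
          invFun := fun a => ⟨𝔮 z * a * (𝔮 z)⁻¹, hjn a⟩
          left_inv := fun a => Subtype.ext (by
            have h2 : 𝔮 z * 𝔮 z = 1 := by rw [← map_mul, hz, map_one]
            show 𝔮 z * (𝔮 z * a * (𝔮 z)⁻¹) * (𝔮 z)⁻¹ = a
            rw [← mul_assoc, ← mul_assoc, h2, one_mul, mul_assoc, ← mul_inv_rev, h2, inv_one, mul_one])
          right_inv := fun a => Subtype.ext (by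
            have h2 : 𝔮 z * 𝔮 z = 1 := by rw [← map_mul, hz, map_one]
            show 𝔮 z * (𝔮 z * a * (𝔮 z)⁻¹) * (𝔮 z)⁻¹ = a
            rw [← mul_assoc, ← mul_assoc, h2, one_mul, mul_assoc, ← mul_inv_rev, h2, inv_one, mul_one])
          map_mul' := fun a b => Subtype.ext (by
            show 𝔮 z * (a * b) * (𝔮 z)⁻¹ = 𝔮 z * a * (𝔮 z)⁻¹ * (𝔮 z * b * (𝔮 z)⁻¹)
            group) }
      have : Group.IsPerfect ↥(J.map 𝔮) := h.quasi.1
      have hfix := mulEquiv_eq_of_perfect α (fun a => e (by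
        obtain ⟨_, j, hj, rfl⟩ := a
        rw [mem_comap, map_mul, map_inv, hfr j hj]
        show r z * r j * (r z)⁻¹ * (r j)⁻¹ ∈ N
        refine ⟨?_, mul_mem (hσn _ (mem_map_of_mem r hj)) ((J.map r).inv_mem (mem_map_of_mem r hj))⟩
        exact ⟨_, CfsgLib.Invol.zstar M hiso ⟨r j, hJM (mem_map_of_mem r hj)⟩, rfl⟩))
      have := congrArg Subtype.val (hfix ⟨𝔮 v, mem_map_of_mem _ hv⟩)
      rw [map_mul, map_mul, map_inv]
      exact this
  -- some such conjugate commutes with `σ`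
  obtain ⟨m, hm, hmR, hmne, hcomm⟩ :
      ∃ m ∈ M, m * σ * m⁻¹ ∈ R ∧ m * σ * m⁻¹ ≠ σ ∧ Commute σ (m * σ * m⁻¹) := by
    obtain ⟨m, hm, hmR, hmne⟩ := key
    by_cases hc : Commute σ (m * σ * m⁻¹)
    · exact ⟨m, hm, hmR, hmne, hc⟩
    have hσR : σ ∈ R := mem_sup_right (mem_zpowers σ)
    set CR := (centralizer ({σ} : Set _)).subgroupOf R with hCR
    have hlt : CR < ⊤ := by
      refine lt_top_iff_ne_top.2 fun e => hc ?_
      have hm' : (⟨_, hmR⟩ : R) ∈ CR := e ▸ mem_top _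
      exact (mem_centralizer_singleton_iff.1 hm').symm
    have hnil : Group.IsNilpotent R := ((T.isPGroup'.map r).to_le hRT).isNilpotent
    obtain ⟨hle, hne'⟩ := Group.normalizerCondition_of_isNilpotent CR hlt
    obtain ⟨n, hn, hnC⟩ := Set.not_subset.1 hne'
    have hmem : (⟨σ, hσR⟩ : R) ∈ CR := mem_centralizer_singleton_iff.2 rfl
    have hn2 := (mem_normalizer_iff.1 hn _).1 hmem
    refine ⟨n, hRM n.2, mul_mem (mul_mem n.2 hσR) (inv_mem n.2), fun e => hnC ?_, ?_⟩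
    · exact mem_centralizer_singleton_iff.2 (mul_inv_eq_iff_eq_mul.1 e)
    · exact (mem_centralizer_singleton_iff.1 hn2).symm
  obtain ⟨g, hg, hgv⟩ := hconj m hm
  rw [hgv] at hmR hmne hcomm
  -- the shape of the conjugate
  obtain ⟨a, ha, b, hb, hab⟩ := exists_mul_of_mem_sup
    (zpowers_le.2 (mem_normalizer_fintype (by
      rintro _ ⟨w, hw, rfl⟩
      refine ⟨z * w * z⁻¹, ⟨(mem_normalizer_iff.1 hzJ w).1 hw.1,
        mul_mem (mul_mem hzT hw.2) ((T : Subgroup C).inv_mem hzT)⟩, by rw [map_mul, map_mul, map_inv]⟩))) hmR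
  obtain ⟨p, hp, rfl⟩ := ha
  obtain ⟨i, rfl⟩ := mem_zpowers_iff.1 hb
  have hi : σ ^ i = 1 ∨ σ ^ i = σ := by
    rcases Int.even_or_odd i with ⟨k, rfl⟩ | ⟨k, rfl⟩
    · left; rw [← two_mul, zpow_mul, zpow_two, hσ2, one_zpow]
    · right; rw [zpow_add_one, zpow_mul, zpow_two, hσ2, one_zpow, one_mul]
  rcases hi with hi | hi
  · exfalso
    rw [hi, mul_one] at hab
    refine hσJ ?_
    have h1 : r g⁻¹ * r (g * z * g⁻¹) * r g ∈ J.map r :=
      mul_mem (mul_mem (mem_map_of_mem r (inv_mem hg)) (hab ▸ mem_map_of_mem r hp.1))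
        (mem_map_of_mem r hg)
    rwa [← map_mul, ← map_mul, show g⁻¹ * (g * z * g⁻¹) * g = z by group] at h1
  rw [hi, hσ, ← map_mul] at hab
  have hzi : z⁻¹ = z := inv_eq_of_mul_eq_one_right hz
  have hsq : p * z * (p * z) = 1 ∨ p * z * (p * z) = x := by
    rcases rT 1 (one_mem _) _ (mul_mem (mul_mem hp.2 hzT) (mul_mem hp.2 hzT)) (by
      rw [map_one, map_mul, hab, ← map_mul, show g * z * g⁻¹ * (g * z * g⁻¹) = g * (z * z) * g⁻¹ by
        group, hz, mul_one, mul_inv_cancel, map_one]) with e | e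
    · exact Or.inl e
    · right; rw [e, one_mul]
  have hp1 : p ≠ 1 ∧ p ≠ x := by
    refine ⟨fun e => hmne ?_, fun e => hmne ?_⟩
    · rw [← hab, e, one_mul]
    · rw [← hab, e, map_mul, hrx, one_mul]
  have hzp : z * p * z⁻¹ = p ∨ z * p * z⁻¹ = p * x := by
    refine rT p hp.2 _ (mul_mem (mul_mem hzT hp.2) ((T : Subgroup C).inv_mem hzT)) ?_
    have e : Commute σ (r p * σ) := by rw [hσ, ← map_mul, hab]; exact hcomm
    have e2 : σ * r p = r p * σ := mul_right_cancel (by rw [mul_assoc, e.eq])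
    rw [map_mul, map_mul, map_inv, ← hσ, e2, mul_inv_cancel_right]
  have hpp : p * p = x := by
    have h1 : p * p = 1 ∨ p * p = x := by
      rcases hzp with e | e <;> rw [mul_inv_eq_iff_eq_mul] at e
      · rw [mul_assoc, ← mul_assoc z, e, mul_assoc, hz, mul_one] at hsq
        exact hsq
      · rw [mul_assoc, ← mul_assoc z, e, mul_assoc (p * x), hz, mul_one, ← mul_assoc] at hsq
        rcases hsq with e' | e'
        · right; rw [mul_eq_one_iff_eq_inv.1 e', h.x_inv]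
        · left; exact mul_eq_right.1 e'
    refine h1.resolve_left fun e => ?_
    rcases h.invol_eq hp.1 e with e' | e'
    · exact hp1.1 e'
    · exact hp1.2 e'
  have hpi : p⁻¹ = p * x := inv_eq_of_mul_eq_one_right (by
    rw [← mul_assoc, hpp, h.x_sq])
  have hq := req (p * z) (g * z * g⁻¹) hab
  have hinv : z * p * z⁻¹ = p⁻¹ := by
    rw [hpi]
    refine hzp.resolve_left fun e => ?_
    rw [mul_inv_eq_iff_eq_mul] at e
    have hpz : p * z * (p * z) = x := by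
      rw [mul_assoc, ← mul_assoc z, e, mul_assoc p z z, hz, mul_one, hpp]
    have h1 : 𝔮 (g * z * g⁻¹ * (g * z * g⁻¹)) = 1 := by
      rw [show g * z * g⁻¹ * (g * z * g⁻¹) = g * (z * z) * g⁻¹ by group, hz, mul_one,
        mul_inv_cancel, map_one]
    refine h.q_x_ne_one (Eq.trans ?_ h1)
    rcases hq with e' | e'
    · rw [map_mul 𝔮 (g * z * g⁻¹), e', ← map_mul, hpz]
    · rw [map_mul 𝔮 (g * z * g⁻¹), e', ← map_mul, mul_assoc (p * z) x,
        ← mul_assoc x, ← mem_center_iff.1 h.cent (p * z), mul_assoc (p * z) x, h.x_sq,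
        mul_one, hpz]
  rcases hq with hq | hq
  · exact ⟨p, hp.1, g, hg, hp.2, hpp, hinv, hq⟩
  · refine ⟨p * x, mul_mem hp.1 h.mem, g, hg, mul_mem hp.2 hxT, ?_, ?_, ?_⟩
    · rw [mul_assoc, ← mul_assoc x, ← mem_center_iff.1 h.cent p, mul_assoc p x, h.x_sq, mul_one, hpp]
    · rw [mul_inv_rev, h.x_inv, ← mem_center_iff.1 h.cent p⁻¹, ← hinv]
      calc z * (p * x) * z⁻¹ = z * p * (x * z⁻¹) := by group
        _ = z * p * (z⁻¹ * x) := by rw [mem_center_iff.1 h.cent z⁻¹]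
        _ = z * p * z⁻¹ * x := by group
    · rw [hq, mul_assoc p z x, mem_center_iff.1 h.cent z, ← mul_assoc]

end TwoComp

end CfsgLib.Comp.Intrinsic
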